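import Mathlib.Algebra.Homology.DerivedCategory.KProjective
import Mathlib.Algebra.Homology.DerivedCategory.Ext.Basic
import Mathlib.Algebra.Homology.DerivedCategory.TStructure
import Mathlib.Algebra.Homology.SingleHomology
import Mathlib.CategoryTheory.Preadditive.Projective.Basic

/-! # Maps out of projective objects in derived categories -/

universe w v u

open CategoryTheory CategoryTheory.Limits

set_option backward.isDefEq.respectTransparency false
set_option backward.defeqAttrib.useBackward true
set_option linter.style.haveILetI false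
set_option linter.unusedSectionVars false

noncomputable section

namespace Groth.L27.ProEtDC

variable {A : Type u} [Category.{v} A] [Abelian A] [HasDerivedCategory.{w} A]

/-- Taking cohomology in degree zero of a map out of an object in degree zero. -/
def homZero (P : A) (K : DerivedCategory A) :
    ((DerivedCategory.singleFunctor A 0).obj P ⟶ K) → (P ⟶ (DerivedCategory.homologyFunctor A 0).obj K) :=
  fun g => ((DerivedCategory.singleFunctorCompHomologyFunctorIso A 0).inv.app P :) ≫
    (DerivedCategory.homologyFunctor A 0).map g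

theorem homZero_comp {P : A} {K K' : DerivedCategory A} (g : (DerivedCategory.singleFunctor A 0).obj P ⟶ K)
    (φ : K ⟶ K') :
    homZero P K' (g ≫ φ) = homZero P K g ≫ (DerivedCategory.homologyFunctor A 0).map φ := by
  simp [homZero]

theorem homZero_precomp {P P' : A} {K : DerivedCategory A} (a : P' ⟶ P)
    (g : (DerivedCategory.singleFunctor A 0).obj P ⟶ K) :
    homZero P' K ((DerivedCategory.singleFunctor A 0).map a ≫ g) = a ≫ homZero P K g := by
  have h := (DerivedCategory.singleFunctorCompHomologyFunctorIso A 0).inv.naturality a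
  simp only [homZero, Functor.map_comp, ← Category.assoc]
  congr 1
  simpa using h.symm

/-- A cycle map of a single object. -/
theorem exists_hom_of_cycle {P : A} (L : CochainComplex A ℤ) (v : P ⟶ L.cycles 0) :
    ∃ φ : (HomologicalComplex.single A (ComplexShape.up ℤ) 0).obj P ⟶ L,
      (HomologicalComplex.singleObjHomologySelfIso (ComplexShape.up ℤ) 0 P).inv ≫
        HomologicalComplex.homologyMap φ 0 = v ≫ L.homologyπ 0 := by
  let φ : (HomologicalComplex.single A (ComplexShape.up ℤ) 0).obj P ⟶ L :=
    HomologicalComplex.mkHomFromSingle (v ≫ L.iCycles 0) (fun j _ => by simp)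
  refine ⟨φ, ?_⟩
  rw [← HomologicalComplex.singleObjCyclesSelfIso_inv_homologyπ, Category.assoc,
    HomologicalComplex.homologyπ_naturality, ← Category.assoc]
  congr 1
  rw [← cancel_mono (L.iCycles 0), Category.assoc, HomologicalComplex.cyclesMap_i,
    HomologicalComplex.singleObjCyclesSelfIso_inv_iCycles_assoc]
  simp [φ]

/-- A map out of a projective object in degree zero which kills cohomology is null homotopic. -/
theorem homotopic_zero {P : A} [Projective P] (L : CochainComplex A ℤ)
    (φ : (HomologicalComplex.single A (ComplexShape.up ℤ) 0).obj P ⟶ L)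
    (h : HomologicalComplex.homologyMap φ 0 = 0) : Nonempty (Homotopy φ 0) := by
  let v : P ⟶ L.cycles 0 := (HomologicalComplex.singleObjCyclesSelfIso (ComplexShape.up ℤ) 0 P).inv ≫
    HomologicalComplex.cyclesMap φ 0
  have hv : v ≫ L.homologyπ 0 = 0 := by
    simp only [v, Category.assoc, ← HomologicalComplex.homologyπ_naturality, h, comp_zero]
  let S := ShortComplex.mk (L.toCycles (-1) 0) (L.homologyπ 0) (L.toCycles_comp_homologyπ (-1) 0)
  have hS : S.Exact := S.exact_of_g_is_cokernel (L.homologyIsCokernel (-1) 0 (by simp))
  let k : P ⟶ L.X (-1) := hS.liftFromProjective v hv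
  have hk : k ≫ L.toCycles (-1) 0 = v := hS.liftFromProjective_comp v hv
  have hkd : (HomologicalComplex.singleObjXSelf (ComplexShape.up ℤ) 0 P).hom ≫ k ≫ L.d (-1) 0 = φ.f 0 := by
    rw [← HomologicalComplex.toCycles_i, reassoc_of% hk]
    simp only [v, Category.assoc, HomologicalComplex.cyclesMap_i,
      HomologicalComplex.singleObjCyclesSelfIso_inv_iCycles_assoc, Iso.hom_inv_id_assoc]
  refine ⟨{ hom := fun i j => if hi : i = 0 then (if hj : j = -1 then
      eqToHom (by rw [hi]) ≫ (HomologicalComplex.singleObjXSelf (ComplexShape.up ℤ) 0 P).hom ≫ k ≫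
        eqToHom (by rw [hj]) else 0) else 0,
            zero := fun i j hij => ?_, comm := fun i => ?_ }⟩
  · split_ifs with hi hj
    · subst hi hj
      exact absurd (show (ComplexShape.up ℤ).Rel (-1) 0 by simp) hij
    · rfl
    · rfl
  · rw [dNext_eq _ (show (ComplexShape.up ℤ).Rel i (i + 1) from rfl),
      prevD_eq _ (show (ComplexShape.up ℤ).Rel (i - 1) i by simp), HomologicalComplex.zero_f, add_zero,
      HomologicalComplex.single_obj_d, zero_comp, zero_add]
    by_cases hi : i = 0
    · subst hi
      simp [hkd]
    · exact (HomologicalComplex.isZero_single_obj_X _ _ _ _ hi).eq_of_src _ _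

/-- Maps out of a projective object in degree zero are maps to the cohomology in degree zero. -/
theorem bijective_homZero (P : A) [Projective P] (K : DerivedCategory A) : Function.Bijective (homZero P K) := by
  obtain ⟨L, ⟨e⟩⟩ : ∃ L, Nonempty (DerivedCategory.Q.obj L ≅ K) :=
    ⟨_, ⟨DerivedCategory.Q.objObjPreimageIso K⟩⟩
  suffices hL : Function.Bijective (homZero P (DerivedCategory.Q.obj L)) by
    have : homZero P K = (fun u => u ≫ (DerivedCategory.homologyFunctor A 0).map e.hom) ∘
        homZero P (DerivedCategory.Q.obj L) ∘ (fun g => g ≫ e.inv) := by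
      funext g
      simp only [Function.comp_apply, ← homZero_comp, Category.assoc, Iso.inv_hom_id, Category.comp_id]
    rw [this]
    exact (((DerivedCategory.homologyFunctor A 0).mapIso e).homToEquiv).bijective.comp
      (hL.comp e.symm.homToEquiv.bijective)
  let S := (HomologicalComplex.single A (ComplexShape.up ℤ) 0).obj P
  haveI : ∀ n, Projective (S.X n) := fun n => by
    by_cases hn : n = 0
    · subst hn
      exact Projective.of_iso (HomologicalComplex.singleObjXSelf (ComplexShape.up ℤ) 0 P).symm inferInstance
    · exact (HomologicalComplex.isZero_single_obj_X _ _ _ _ hn).projective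
  haveI : CochainComplex.IsKProjective S := CochainComplex.isKProjective_of_projective S 0
  let i := (DerivedCategory.singleFunctorIsoCompQ A 0).app P
  have hsurj : Function.Surjective (fun φ : S ⟶ L => i.hom ≫ DerivedCategory.Q.map φ) := fun g => by
    obtain ⟨a, ha⟩ := (CochainComplex.IsKProjective.Qh_map_bijective S
      ((HomotopyCategory.quotient A _).obj L)).2 ((DerivedCategory.quotientCompQhIso A).hom.app S ≫ i.inv ≫ g ≫
        (DerivedCategory.quotientCompQhIso A).inv.app L)
    obtain ⟨φ, rfl⟩ := (HomotopyCategory.quotient A _).map_surjective a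
    refine ⟨φ, ?_⟩
    show i.hom ≫ DerivedCategory.Q.map φ = g
    rw [← cancel_epi i.inv, Iso.inv_hom_id_assoc, ← cancel_epi ((DerivedCategory.quotientCompQhIso A).hom.app S),
      ← (DerivedCategory.quotientCompQhIso A).hom.naturality φ]
    show DerivedCategory.Qh.map ((HomotopyCategory.quotient A _).map φ) ≫ _ = _
    rw [ha]
    simp
  have key : ∀ φ : S ⟶ L, homZero P (DerivedCategory.Q.obj L) (i.hom ≫ DerivedCategory.Q.map φ) =
      homZero P (DerivedCategory.Q.obj S) i.hom ≫ (DerivedCategory.homologyFunctor A 0).map (DerivedCategory.Q.map φ) :=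
    fun φ => homZero_comp _ _
  haveI : IsIso (homZero P (DerivedCategory.Q.obj S) i.hom) := by
    dsimp [homZero]
    infer_instance
  have hnat : ∀ φ : S ⟶ L, (DerivedCategory.homologyFunctor A 0).map (DerivedCategory.Q.map φ) ≫
      (DerivedCategory.homologyFunctorFactors A 0).hom.app L =
        (DerivedCategory.homologyFunctorFactors A 0).hom.app S ≫ HomologicalComplex.homologyMap φ 0 := fun φ =>
    (DerivedCategory.homologyFunctorFactors A 0).hom.naturality φ
  refine ⟨fun g g' h => ?_, fun t => ?_⟩
  · obtain ⟨φ, rfl⟩ := hsurj g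
    obtain ⟨φ', rfl⟩ := hsurj g'
    simp only [key, cancel_epi] at h
    have h' : HomologicalComplex.homologyMap (φ - φ') 0 = 0 := by
      rw [HomologicalComplex.homologyMap_sub, sub_eq_zero, ← cancel_epi ((DerivedCategory.homologyFunctorFactors A 0).hom.app S),
        ← hnat, ← hnat, h]
    obtain ⟨H⟩ := homotopic_zero L _ h'
    have hq : (HomotopyCategory.quotient A _).map φ = (HomotopyCategory.quotient A _).map φ' :=
      HomotopyCategory.eq_of_homotopy _ _ (Homotopy.equivSubZero.symm H)
    have hQ : DerivedCategory.Q.map φ = DerivedCategory.Q.map φ' := by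
      rw [← cancel_epi ((DerivedCategory.quotientCompQhIso A).hom.app S),
        ← (DerivedCategory.quotientCompQhIso A).hom.naturality φ,
        ← (DerivedCategory.quotientCompQhIso A).hom.naturality φ', Functor.comp_map, Functor.comp_map, hq]
    show i.hom ≫ DerivedCategory.Q.map φ = i.hom ≫ DerivedCategory.Q.map φ'
    rw [hQ]
  · let c : P ⟶ L.homology 0 := t ≫ (DerivedCategory.homologyFunctorFactors A 0).hom.app L
    let α := homZero P (DerivedCategory.Q.obj S) i.hom ≫ (DerivedCategory.homologyFunctorFactors A 0).hom.app S ≫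
      (HomologicalComplex.singleObjHomologySelfIso (ComplexShape.up ℤ) 0 P).hom
    haveI : IsIso α := inferInstance
    obtain ⟨φ, hφ⟩ := exists_hom_of_cycle L (Projective.factorThru (inv α ≫ c) (L.homologyπ 0))
    rw [Projective.factorThru_comp] at hφ
    refine ⟨i.hom ≫ DerivedCategory.Q.map φ, ?_⟩
    rw [key, ← cancel_mono ((DerivedCategory.homologyFunctorFactors A 0).hom.app L), Category.assoc, hnat]
    calc homZero P (DerivedCategory.Q.obj S) i.hom ≫ (DerivedCategory.homologyFunctorFactors A 0).hom.app S ≫
          HomologicalComplex.homologyMap φ 0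
        = α ≫ (HomologicalComplex.singleObjHomologySelfIso (ComplexShape.up ℤ) 0 P).inv ≫
            HomologicalComplex.homologyMap φ 0 := by simp [α, S]
      _ = c := by rw [hφ, IsIso.hom_inv_id_assoc]

/-- There are no maps of negative degree between objects placed in degree zero. -/
theorem single_hom_eq_zero {X Y : A} {n : ℤ} (hn : n < 0)
    (g : (DerivedCategory.singleFunctor A 0).obj X ⟶ ((DerivedCategory.singleFunctor A 0).obj Y)⟦n⟧) : g = 0 := by
  haveI : DerivedCategory.TStructure.t.IsLE ((DerivedCategory.singleFunctor A 0).obj X) 0 :=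
    inferInstanceAs (((DerivedCategory.singleFunctor A 0).obj X).IsLE 0)
  haveI : DerivedCategory.TStructure.t.IsGE ((DerivedCategory.singleFunctor A 0).obj Y) 0 :=
    inferInstanceAs (((DerivedCategory.singleFunctor A 0).obj Y).IsGE 0)
  haveI := DerivedCategory.TStructure.t.isGE_shift ((DerivedCategory.singleFunctor A 0).obj Y) 0 n (-n) (by omega)
  exact DerivedCategory.TStructure.t.zero_of_isLE_of_isGE g 0 (-n) (by omega) inferInstance inferInstance

/-- `Ext` groups vanish iff all maps of all degrees between the objects placed in degree zero vanish. -/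
theorem forall_subsingleton_ext_iff [HasExt.{v} A] (X Y : A) :
    (∀ n : ℕ, Subsingleton (Abelian.Ext.{v} X Y n)) ↔
      ∀ n : ℤ, Subsingleton ((DerivedCategory.singleFunctor A 0).obj X ⟶
        ((DerivedCategory.singleFunctor A 0).obj Y)⟦n⟧) := by
  refine ⟨fun h n => ?_, fun h n => @Equiv.subsingleton _ _ Abelian.Ext.homEquiv (h n)⟩
  by_cases hn : n < 0
  · exact subsingleton_of_forall_eq 0 (single_hom_eq_zero hn)
  · obtain ⟨m, rfl⟩ := Int.eq_ofNat_of_zero_le (le_of_not_gt hn)
    exact @Equiv.subsingleton _ _ Abelian.Ext.homEquiv.symm (h m)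

end Groth.L27.ProEtDC
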