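import Groth.Agent.L27.ProEtDC.Free
import Groth.Agent.L27.ProEtDC.ProjHom
import Groth.Agent.L04.DerComp.Detect
import Groth.Agent.L04.RGamma.CompleteSeparated
import Groth.Agent.L10.HomotopyProd
import Mathlib.Algebra.Homology.DerivedCategory.Linear

/-! # Derived completeness on the small pro-etale site, on weakly contractible objects -/

universe u

open CategoryTheory CategoryTheory.Limits AlgebraicGeometry Opposite

attribute [local instance] HasDerivedCategory.standard

set_option backward.isDefEq.respectTransparency false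
set_option backward.defeqAttrib.useBackward true
set_option linter.style.haveILetI false
set_option linter.unusedSectionVars false

noncomputable section

namespace Groth.L27.ProEtDC

open Groth.L04.DerComp Groth.L04.RGamma

variable {Λ : Type (u + 1)} [CommRing Λ] {X : Scheme.{u}}

/-- Completeness is invariant under linear equivalences, in any universes. -/
theorem tzMod_congr {M N : Type*} [AddCommGroup M] [Module Λ M] [AddCommGroup N] [Module Λ N] (f : Λ)
    (e : M ≃ₗ[Λ] N) : TzMod f M ↔ TzMod f N :=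
  tz_iff_of_equiv e.toAddEquiv _ _ fun x => e.map_smul f x

/-- Linearly equivalent hom modules. -/
def homFromLinearEquiv {T : Type*} [Category T] [Preadditive T] [Linear Λ T] {A B : T} (e : A ≅ B) (K : T) :
    (A ⟶ K) ≃ₗ[Λ] (B ⟶ K) :=
  { toFun := fun g => e.inv ≫ g
    invFun := fun g => e.hom ≫ g
    left_inv := fun g => by simp
    right_inv := fun g => by simp
    map_add' := fun g h => Preadditive.comp_add _ _ _ _ _ _
    map_smul' := fun a g => Linear.comp_smul _ _ _ _ _ _ }

/-- Linearly equivalent hom modules. -/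
def homToLinearEquiv {T : Type*} [Category T] [Preadditive T] [Linear Λ T] (P : T) {A B : T} (e : A ≅ B) :
    (P ⟶ A) ≃ₗ[Λ] (P ⟶ B) :=
  { toFun := fun g => g ≫ e.hom
    invFun := fun g => g ≫ e.inv
    left_inv := fun g => by simp
    right_inv := fun g => by simp
    map_add' := fun g h => Preadditive.add_comp _ _ _ _ _ _
    map_smul' := fun a g => Linear.smul_comp _ _ _ _ _ _ }

/-- The free sheaf on `U` placed in degree zero. -/
abbrev freeD (Λ : Type (u + 1)) [CommRing Λ] (U : X.ProEt) : _root_.ProEtDC.DP Λ X :=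
  (DerivedCategory.singleFunctor (EtModW.ModP Λ X) 0).obj (free Λ U)

/-- `K` is complete for `f` at `U`. -/
def TzAt (K : _root_.ProEtDC.DP Λ X) (U : X.ProEt) (f : Λ) : Prop :=
  ∀ n : ℤ, TzMod f ((freeD Λ U)⟦n⟧ ⟶ K)

theorem isDC_at_iff (K : _root_.ProEtDC.DP Λ X) (U : X.ProEt) (f : Λ) :
    (∀ n : ℤ, Subsingleton ((DerivedCategory.singleFunctor (EtModW.ModP Λ X) 0).obj (_root_.ProEtDC.locExt Λ U f) ⟶
      (shiftFunctor (_root_.ProEtDC.DP Λ X) n).obj K)) ↔ TzAt K U f := by
  haveI : Mono (𝟙 _ - DerLim.shiftMap (fun _ : ℕ => free Λ U) (fun _ => f • 𝟙 (free Λ U))) :=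
    Groth.L10.SeqColim.mono_one_sub_shift (fun _ : ℕ => free Λ U) _
  have h := forall_tz_iff (free Λ U) (f • 𝟙 (free Λ U)) K
  let s := DerivedCategory.singleFunctor (EtModW.ModP Λ X) 0
  let sh := fun n : ℤ => (shiftEquiv (_root_.ProEtDC.DP Λ X) n)
  let e := s.mapIso (asIso (teleDesc U f))
  refine Iff.trans ⟨fun h n => ?_, fun h n => ?_⟩ (h.symm.trans (forall_congr' fun n => ?_))
  · exact @Equiv.subsingleton _ _ (((sh n).toAdjunction.homEquiv _ _).trans e.homFromEquiv) (h (-n))
  · exact @Equiv.subsingleton _ _ (((sh n).symm.toAdjunction.homEquiv _ _).symm.trans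
      ((shiftFunctor (_root_.ProEtDC.DP Λ X) (-n)).mapIso e.symm).homFromEquiv.symm.symm) (h (-n))
  · refine tz_iff_of_equiv (AddEquiv.refl _) _ _ fun g => ?_
    show (s.map (f • 𝟙 (free Λ U)))⟦n⟧' ≫ g = f • g
    rw [Functor.map_smul, CategoryTheory.Functor.map_id, Functor.map_smul, CategoryTheory.Functor.map_id,
      Linear.smul_comp, Category.id_comp]

theorem isDC_iff (I : Ideal Λ) (K : _root_.ProEtDC.DP Λ X) :
    _root_.ProEtDC.IsDC Λ I K ↔ ∀ (U : X.ProEt), ∀ f ∈ I, TzAt K U f :=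
  forall_congr' fun U => forall₂_congr fun f _ => isDC_at_iff K U f

/-- Taking sections of cohomology in degree zero. -/
def homSec {U : X.ProEt} (hU : ProEtS.IsWC U) (K : _root_.ProEtDC.DP Λ X) :
    (freeD Λ U ⟶ K) ≃ₗ[Λ] (_root_.ProEtDC.HDP K 0).obj.obj (op U) :=
  haveI := projective_free (Λ := Λ) hU
  (LinearEquiv.ofBijective
    { toFun := homZero (free Λ U) K
      map_add' := fun g h => by simp [homZero]
      map_smul' := fun a g => by
        have e : a • g = (DerivedCategory.singleFunctor (EtModW.ModP Λ X) 0).map (a • 𝟙 (free Λ U)) ≫ g := by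
          rw [Functor.map_smul, CategoryTheory.Functor.map_id, Linear.smul_comp, Category.id_comp]
        rw [RingHom.id_apply, e, homZero_precomp, Linear.smul_comp, Category.id_comp] }
    (bijective_homZero (free Λ U) K)).trans (secEquiv U _)

theorem tzAt_wc_iff {U : X.ProEt} (hU : ProEtS.IsWC U) (K : _root_.ProEtDC.DP Λ X) (f : Λ) :
    TzAt K U f ↔ ∀ p : ℤ, TzMod f ((_root_.ProEtDC.HDP K p).obj.obj (op U)) := by
  have key : ∀ n : ℤ, TzMod f ((freeD Λ U)⟦n⟧ ⟶ K) ↔ TzMod f ((_root_.ProEtDC.HDP K (-n)).obj.obj (op U)) := fun n => by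
    let a := (shiftEquiv (_root_.ProEtDC.DP Λ X) n).toAdjunction
    let l : ((freeD Λ U)⟦n⟧ ⟶ K) ≃ₗ[Λ] (freeD Λ U ⟶ K⟦-n⟧) :=
      { a.homEquiv (freeD Λ U) K with
        map_add' := fun g h => by simp [Adjunction.homEquiv_unit]
        map_smul' := fun c g => by simp [Adjunction.homEquiv_unit] }
    let i := ((DerivedCategory.homologyFunctor (EtModW.ModP Λ X) 0).shiftIso (-n) 0 (-n) (add_zero _)).app K
    exact tzMod_congr f (l.trans ((homSec hU (K⟦-n⟧)).trans
      (((sheafToPresheaf _ _ ⋙ (evaluation _ _).obj (op U)).mapIso i).toLinearEquiv)))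
  exact ⟨fun h p => neg_neg p ▸ (key (-p)).1 (h (-p)), fun h n => (key n).2 (h (-n))⟩

theorem isSeparating_free_wc :
    (ObjectProperty.ofObj fun U : {U : X.ProEt // ProEtS.IsWC U} => free Λ U.1).IsSeparating := by
  intro F G a b h
  refine hom_ext_wc a b fun V hV s => ?_
  have := congrArg (secEquiv V G) (h _ ⟨⟨V, hV⟩⟩ ((secEquiv V F).symm s))
  rwa [secEquiv_comp, secEquiv_comp, LinearEquiv.apply_symm_apply] at this

section Telescope

variable (K : _root_.ProEtDC.DP Λ X) (f : Λ)

instance : HasProductsOfShape ℕ (_root_.ProEtDC.DP Λ X) := Groth.L10.DerivedProd.hasProductsOfShape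

/-- The endomorphism of a countable power whose bijectivity is completeness. -/
def thetaMap : (∏ᶜ fun _ : ℕ => K) ⟶ ∏ᶜ fun _ : ℕ => K :=
  Pi.lift fun i => Pi.π (fun _ : ℕ => K) i - f • Pi.π (fun _ : ℕ => K) (i + 1)

theorem bijective_thetaMap_iff (P : _root_.ProEtDC.DP Λ X) :
    Function.Bijective (fun g : P ⟶ ∏ᶜ fun _ : ℕ => K => g ≫ thetaMap K f) ↔ TzMod f (P ⟶ K) := by
  let Φ : (P ⟶ ∏ᶜ fun _ : ℕ => K) ≃ (ℕ → (P ⟶ K)) :=
    { toFun := fun g i => g ≫ Pi.π (fun _ : ℕ => K) i
      invFun := fun x => Pi.lift x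
      left_inv := fun g => Pi.hom_ext _ _ fun i => Pi.lift_π _ _
      right_inv := fun x => funext fun i => Pi.lift_π _ _ }
  have key : theta (smulEnd f (P ⟶ K)) ∘ Φ = Φ ∘ (fun g : P ⟶ ∏ᶜ fun _ : ℕ => K => g ≫ thetaMap K f) :=
    funext fun g => funext fun i => by
      simp [Φ, thetaMap, theta_apply, smulEnd_apply]
  rw [TzMod, Tz, ← Function.Bijective.of_comp_iff _ Φ.bijective, key, Function.Bijective.of_comp_iff' Φ.bijective]

theorem tzAt_of_wc (h : ∀ V : X.ProEt, ProEtS.IsWC V → TzAt K V f) (U : X.ProEt) : TzAt K U f := by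
  haveI : IsIso (thetaMap K f) :=
    isIso_of_separating (fun V : {V : X.ProEt // ProEtS.IsWC V} => free Λ V.1) isSeparating_free_wc _
      fun V n => (bijective_thetaMap_iff K f _).2 (h V.1 V.2 n)
  exact fun n => (bijective_thetaMap_iff K f _).1 (asIso (thetaMap K f)).homToEquiv.bijective

end Telescope

/-- An object is derived complete iff the sections of its cohomology sheaves over weakly contractible objects are. -/
theorem isDC_iff_wc (I : Ideal Λ) (K : _root_.ProEtDC.DP Λ X) :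
    _root_.ProEtDC.IsDC Λ I K ↔ ∀ (p : ℤ) (V : X.ProEt), ProEtS.IsWC V → ∀ f ∈ I,
      TzMod f ((_root_.ProEtDC.HDP K p).obj.obj (op V)) := by
  rw [isDC_iff]
  refine ⟨fun h p V hV f hf => (tzAt_wc_iff hV K f).1 (h V f hf) p, fun h U f hf => ?_⟩
  exact tzAt_of_wc K f (fun V hV => (tzAt_wc_iff hV K f).2 fun p => h p V hV f hf) U

theorem isDCSheaf_iff_isDC (I : Ideal Λ) (F : EtModW.ModP Λ X) :
    _root_.ProEtDC.IsDCSheaf Λ I F ↔
      _root_.ProEtDC.IsDC Λ I ((DerivedCategory.singleFunctor (EtModW.ModP Λ X) 0).obj F) :=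
  forall_congr' fun U => forall₂_congr fun f _ => forall_subsingleton_ext_iff _ F

/-- A sheaf is derived complete iff its sections over weakly contractible objects are. -/
theorem isDCSheaf_iff_wc (I : Ideal Λ) (F : EtModW.ModP Λ X) :
    _root_.ProEtDC.IsDCSheaf Λ I F ↔ ∀ V : X.ProEt, ProEtS.IsWC V → ∀ f ∈ I, TzMod f (F.obj.obj (op V)) := by
  rw [isDCSheaf_iff_isDC, isDC_iff_wc]
  let s := DerivedCategory.singleFunctor (EtModW.ModP Λ X) 0
  have h0 : ∀ V : X.ProEt, ∀ f : Λ, TzMod f ((_root_.ProEtDC.HDP (s.obj F) 0).obj.obj (op V)) ↔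
      TzMod f (F.obj.obj (op V)) := fun V f =>
    TzMod.congr ((sheafToPresheaf _ _ ⋙ (evaluation _ _).obj (op V)).mapIso
      ((DerivedCategory.singleFunctorCompHomologyFunctorIso (EtModW.ModP Λ X) 0).app F)).toLinearEquiv
  refine ⟨fun h V hV f hf => (h0 V f).1 (h 0 V hV f hf), fun h p V hV f hf => ?_⟩
  by_cases hp : p = 0
  · subst hp
    exact (h0 V f).2 (h V hV f hf)
  · have hz : IsZero (_root_.ProEtDC.HDP (s.obj F) p) := by
      rcases lt_or_gt_of_ne hp with hlt | hlt
      · exact DerivedCategory.isZero_of_isGE _ 0 p hlt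
      · exact DerivedCategory.isZero_of_isLE _ 0 p hlt
    haveI : Subsingleton ((_root_.ProEtDC.HDP (s.obj F) p).obj.obj (op V)) := ModuleCat.subsingleton_of_isZero
      ((sheafToPresheaf _ _ ⋙ (evaluation _ _).obj (op V)).map_isZero hz)
    exact TzMod.of_subsingleton

end Groth.L27.ProEtDC
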