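import Groth.Agent.L27.ProEtDC.TowerLim
import Mathlib.Algebra.Homology.DerivedCategory.Ext.Linear
import Mathlib.Algebra.Homology.DerivedCategory.Ext.ExactSequences
import Mathlib.RingTheory.Noetherian.Basic

/-! # Maps from completed constant sheaves to derived complete sheaves -/

universe u

open CategoryTheory CategoryTheory.Limits AlgebraicGeometry Opposite CategoryTheory.Abelian

attribute [local instance] HasDerivedCategory.standard

set_option backward.isDefEq.respectTransparency false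
set_option backward.defeqAttrib.useBackward true
set_option linter.style.haveILetI false
set_option linter.unusedSectionVars false

noncomputable section

namespace Groth.L27.ProEtDC

open Groth.L04.DerComp Groth.L04.RGamma

variable {Λ : Type (u + 1)} [CommRing Λ] {X : Scheme.{u}}

/-- Ext groups into derived complete sheaves are complete. -/
theorem tzMod_ext {I : Ideal Λ} {F : EtModW.ModP Λ X} (hF : _root_.ProEtDC.IsDCSheaf Λ I F) {f : Λ} (hf : f ∈ I)
    (P : EtModW.ModP Λ X) (n : ℕ) : TzMod f (Ext.{u + 1} P F n) := by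
  let s := DerivedCategory.singleFunctor (EtModW.ModP Λ X) 0
  let K := s.obj F
  have hK : ∀ U, TzAt K U f := fun U => (isDC_iff I K).1 ((isDCSheaf_iff_isDC I F).1 hF) U f hf
  haveI : IsIso (thetaMap K f) :=
    isIso_of_separating (fun V : {V : X.ProEt // ProEtS.IsWC V} => free Λ V.1) isSeparating_free_wc _
      fun V n => (bijective_thetaMap_iff K f _).2 (hK V.1 n)
  let a := (shiftEquiv (_root_.ProEtDC.DP Λ X) (-(n : ℤ))).toAdjunction
  let l : ((s.obj P)⟦-(n : ℤ)⟧ ⟶ K) ≃ₗ[Λ] (s.obj P ⟶ K⟦-(-(n : ℤ))⟧) :=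
    { a.homEquiv (s.obj P) K with
      map_add' := fun g h => by simp [Adjunction.homEquiv_unit]
      map_smul' := fun c g => by simp [Adjunction.homEquiv_unit] }
  have h : TzMod f ((s.obj P)⟦-(n : ℤ)⟧ ⟶ K) :=
    (bijective_thetaMap_iff K f _).1 (asIso (thetaMap K f)).homToEquiv.bijective
  exact (tzMod_congr f (l.trans ((homToLinearEquiv (s.obj P) ((shiftFunctor (_root_.ProEtDC.DP Λ X) (n : ℤ)).mapIso
    (Iso.refl K) |> fun _ => eqToIso (congrArg (fun j : ℤ => K⟦j⟧) (neg_neg (n : ℤ))))).trans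
      (Ext.homLinearEquiv (R := Λ)).symm))).1 h

/-- Precomposition with a morphism. -/
def pre {P Q : EtModW.ModP Λ X} (φ : P ⟶ Q) (F : EtModW.ModP Λ X) (n : ℕ) :
    Ext.{u + 1} Q F n →ₗ[Λ] Ext.{u + 1} P F n :=
  Ext.precompOfLinear (Ext.mk₀ φ) Λ F (zero_add n)

theorem pre_apply {P Q : EtModW.ModP Λ X} (φ : P ⟶ Q) {F : EtModW.ModP Λ X} {n : ℕ} (x : Ext.{u + 1} Q F n) :
    pre φ F n x = (Ext.mk₀ φ).comp x (zero_add n) := rfl

theorem pre_comp {P Q R : EtModW.ModP Λ X} (φ : P ⟶ Q) (ψ : Q ⟶ R) {F : EtModW.ModP Λ X} {n : ℕ}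
    (x : Ext.{u + 1} R F n) : pre φ F n (pre ψ F n x) = pre (φ ≫ ψ) F n x :=
  Ext.mk₀_comp_mk₀_assoc φ ψ x

theorem pre_swap {P Q R S : EtModW.ModP Λ X} {φ : P ⟶ Q} {ψ : Q ⟶ S} {φ' : P ⟶ R} {ψ' : R ⟶ S}
    (h : φ ≫ ψ = φ' ≫ ψ') {F : EtModW.ModP Λ X} {n : ℕ} (x : Ext.{u + 1} S F n) :
    pre φ F n (pre ψ F n x) = pre φ' F n (pre ψ' F n x) := by
  rw [pre_comp, pre_comp, h]

/-- The two completion maps of a short exact sequence, as short complexes of sheaves. -/
structure Square (I : Ideal Λ) (F : EtModW.ModP Λ X) where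
  /-- The completed sequence. -/
  top : ShortComplex (EtModW.ModP Λ X)
  /-- The constant sequence. -/
  bot : ShortComplex (EtModW.ModP Λ X)
  /-- The completion maps. -/
  φ : bot ⟶ top
  htop : top.ShortExact
  hbot : bot.ShortExact

namespace Square

variable {I : Ideal Λ} {F : EtModW.ModP Λ X} (sq : Square I F)

/-- Connecting map. -/
def δ (S : ShortComplex (EtModW.ModP Λ X)) (hS : S.ShortExact) (n : ℕ) (x : Ext.{u + 1} S.X₁ F n) :
    Ext.{u + 1} S.X₃ F (n + 1) :=
  hS.extClass.comp x (Nat.add_comm 1 n)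

theorem δ_natural (n : ℕ) (x : Ext.{u + 1} sq.top.X₁ F n) :
    pre sq.φ.τ₃ F (n + 1) (δ (F := F) sq.top sq.htop n x) = δ (F := F) sq.bot sq.hbot n (pre sq.φ.τ₁ F n x) := by
  rw [pre_apply, pre_apply, δ, δ, ← Ext.comp_assoc (a₁₂ := 1) (a₂₃ := n + 1) _ _ _ (zero_add 1) (Nat.add_comm 1 n) (by omega),
    ← ShortComplex.ShortExact.extClass_naturality sq.hbot sq.htop sq.φ,
    Ext.comp_assoc (a₁₂ := 1) (a₂₃ := n) _ _ _ (add_zero 1) (zero_add n) (by omega)]

theorem bijective₂ (h₁ : ∀ n, Function.Bijective (pre sq.φ.τ₁ F n)) (h₃ : ∀ n, Function.Bijective (pre sq.φ.τ₃ F n))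
    (n : ℕ) : Function.Bijective (pre sq.φ.τ₂ F n) := by
  refine ⟨(injective_iff_map_eq_zero _).2 fun x hx => ?_, fun b => ?_⟩
  · obtain ⟨z, hz⟩ := Ext.contravariant_sequence_exact₂ sq.htop F x ((h₁ n).1 ((pre_swap sq.φ.comm₁₂ x).trans
      ((congrArg (pre sq.bot.f F n) hx).trans ((map_zero _).trans (map_zero _).symm))))
    rw [← pre_apply] at hz
    subst hz
    have h0 : pre sq.bot.g F n (pre sq.φ.τ₃ F n z) = 0 := (pre_swap sq.φ.comm₂₃ z).symm.trans hx
    cases n with
    | zero =>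
      haveI := sq.hbot.epi_g
      obtain ⟨t, ht⟩ := (Ext.mk₀_bijective _ _).2 (pre sq.φ.τ₃ F 0 z)
      rw [← ht, pre_apply, Ext.mk₀_comp_mk₀, ← Ext.mk₀_zero] at h0
      have ht0 : t = 0 := by
        rw [← cancel_epi sq.bot.g, comp_zero]
        exact (Ext.mk₀_bijective _ _).1 h0
      rw [ht0, Ext.mk₀_zero] at ht
      rw [(h₃ 0).1 (ht.symm.trans (map_zero _).symm), map_zero]
    | succ n =>
      obtain ⟨w, hw⟩ := Ext.contravariant_sequence_exact₃ sq.hbot F _ h0 (Nat.add_comm 1 n)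
      obtain ⟨w, rfl⟩ := (h₁ n).2 w
      have : z = δ (F := F) sq.top sq.htop n w := (h₃ (n + 1)).1 (hw.symm.trans (sq.δ_natural n w).symm)
      rw [this, pre_apply]
      exact ShortComplex.ShortExact.comp_extClass_assoc _ _ _
  · obtain ⟨a, ha⟩ := (h₁ n).2 (pre sq.bot.f F n b)
    have h0 : δ (F := F) sq.top sq.htop n a = 0 := (h₃ (n + 1)).1 (by
      rw [map_zero, δ_natural, ha]
      exact ShortComplex.ShortExact.extClass_comp_assoc _ _)
    obtain ⟨y, hy⟩ := Ext.contravariant_sequence_exact₁ sq.htop F a _ h0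
    rw [← pre_apply] at hy
    obtain ⟨z, hz⟩ := Ext.contravariant_sequence_exact₂ sq.hbot F (b - pre sq.φ.τ₂ F n y) (by
      rw [← pre_apply, map_sub, sub_eq_zero, ← ha, ← hy]
      exact pre_swap sq.φ.comm₁₂ y)
    obtain ⟨z, rfl⟩ := (h₃ n).2 z
    refine ⟨y + pre sq.top.g F n z, ?_⟩
    rw [map_add, pre_swap sq.φ.comm₂₃ z, pre_apply sq.bot.g, hz]
    exact add_sub_cancel _ _

end Square

variable [IsNoetherianRing Λ] (X)

/-- The completion map of a module induces bijections on maps to `F`. -/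
def Good (I : Ideal Λ) (F : EtModW.ModP Λ X) (M : ModuleCat.{u + 1} Λ) : Prop :=
  ∀ n, Function.Bijective (pre (eta X I M) F n)

variable {X}

/-- The square of a short exact sequence of finitely generated modules. -/
def squareOf (I : Ideal Λ) (F : EtModW.ModP Λ X) {S : ShortComplex (ModuleCat.{u + 1} Λ)} (hS : S.ShortExact)
    [Module.Finite Λ S.X₂] : Square I F where
  top := ShortComplex.mk (chatMap X I S.f) (chatMap X I S.g) (chat_shortExact I hS).choose
  bot := S.map (cst X)
  φ := ShortComplex.homMk (eta X I S.X₁) (eta X I S.X₂) (eta X I S.X₃) (eta_natural I S.f) (eta_natural I S.g)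
  htop := (chat_shortExact I hS).choose_spec
  hbot := hS.map_of_exact (cst X)

theorem good_extension (I : Ideal Λ) (F : EtModW.ModP Λ X) {S : ShortComplex (ModuleCat.{u + 1} Λ)} (hS : S.ShortExact)
    [Module.Finite Λ S.X₂] (h₁ : Good X I F S.X₁) (h₃ : Good X I F S.X₃) : Good X I F S.X₂ :=
  (squareOf I F hS).bijective₂ h₁ h₃

/-- The short exact sequence of a submodule. -/
def subSeq {M : ModuleCat.{u + 1} Λ} (N : Submodule Λ M) : ShortComplex (ModuleCat.{u + 1} Λ) :=
  ShortComplex.mk (ModuleCat.ofHom N.subtype) (ModuleCat.ofHom N.mkQ)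
    (ModuleCat.hom_ext (LinearMap.ext fun x => (Submodule.Quotient.mk_eq_zero N).2 x.2))

theorem subSeq_shortExact {M : ModuleCat.{u + 1} Λ} (N : Submodule Λ M) : (subSeq N).ShortExact where
  exact := (ShortComplex.ShortExact.moduleCat_exact_iff_function_exact _).2 (LinearMap.exact_subtype_mkQ N)
  mono_f := (ModuleCat.mono_iff_injective _).2 N.injective_subtype
  epi_g := (ModuleCat.epi_iff_surjective _).2 N.mkQ_surjective

theorem good_of_subSeq (I : Ideal Λ) (F : EtModW.ModP Λ X) {M : ModuleCat.{u + 1} Λ} [Module.Finite Λ M]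
    (N : Submodule Λ M) (h₁ : Good X I F (ModuleCat.of Λ N)) (h₃ : Good X I F (ModuleCat.of Λ (M ⧸ N))) :
    Good X I F M := by
  haveI : Module.Finite Λ (subSeq N).X₂ := ‹Module.Finite Λ M›
  exact good_extension (S := subSeq N) I F (subSeq_shortExact N) h₁ h₃

theorem good_of_regular (I : Ideal Λ) (F : EtModW.ModP Λ X) (hF : _root_.ProEtDC.IsDCSheaf Λ I F) {a : Λ} (ha : a ∈ I)
    (M : ModuleCat.{u + 1} Λ) [Module.Finite Λ M] (hreg : ∀ x : M, a • x = 0 → x = 0)
    (h₃ : Good X I F (ModuleCat.of Λ (M ⧸ LinearMap.range (a • LinearMap.id : M →ₗ[Λ] M)))) :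
    Good X I F M := by
  let μ : M →ₗ[Λ] M := a • LinearMap.id
  let S := ShortComplex.mk (a • 𝟙 M) (ModuleCat.ofHom (LinearMap.range μ).mkQ)
    (ModuleCat.hom_ext (LinearMap.ext fun x => (Submodule.Quotient.mk_eq_zero _).2 ⟨x, rfl⟩))
  have hS : S.ShortExact :=
    { exact := (ShortComplex.ShortExact.moduleCat_exact_iff_function_exact _).2 (fun y => by
        show (LinearMap.range μ).mkQ y = 0 ↔ y ∈ Set.range μ
        rw [Submodule.mkQ_apply, Submodule.Quotient.mk_eq_zero]
        rfl)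
      mono_f := (ModuleCat.mono_iff_injective _).2 ((injective_iff_map_eq_zero _).2 hreg)
      epi_g := (ModuleCat.epi_iff_surjective _).2 (Submodule.mkQ_surjective _) }
  haveI : Module.Finite Λ S.X₂ := ‹Module.Finite Λ M›
  let sq := squareOf I F hS
  have hb : ∀ (m : ℕ) (x : Ext.{u + 1} ((cst X).obj M) F m), pre ((cst X).map (a • 𝟙 M)) F m x = a • x := fun m x => by
    have e : (cst X).map (a • 𝟙 M) = a • 𝟙 ((cst X).obj M) := by
      refine ((cstAdj X).homEquiv _ _).injective ?_
      rw [Adjunction.homEquiv_unit, Adjunction.homEquiv_unit]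
      refine ((cstAdj X).unit.naturality (a • 𝟙 M)).symm.trans (ModuleCat.hom_ext (LinearMap.ext fun z => ?_))
      exact map_smul ((cstAdj X).unit.app M).hom a z
    rw [pre_apply, e, Ext.mk₀_smul, Ext.smul_comp, Ext.mk₀_id_comp]
  have ht : ∀ (m : ℕ) (x : Ext.{u + 1} (chat X I M) F m), pre (chatMap X I (a • 𝟙 M)) F m x = a • x := fun m x => by
    have e : chatMap X I (a • 𝟙 M) = a • 𝟙 (chat X I M) := limit.hom_ext fun ⟨n⟩ => by
      show chatMap X I (a • 𝟙 M) ≫ chatπ X I M n = (a • 𝟙 (chat X I M)) ≫ chatπ X I M n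
      have e1 : lvlMap I (a • 𝟙 M) n = a • 𝟙 (lvl I M n) :=
        ModuleCat.hom_ext (Submodule.linearMap_qext _ (LinearMap.ext fun x => rfl))
      have e2 : (cst X).map (a • 𝟙 (lvl I M n)) = a • 𝟙 ((cst X).obj (lvl I M n)) := by
        refine ((cstAdj X).homEquiv _ _).injective ?_
        rw [Adjunction.homEquiv_unit, Adjunction.homEquiv_unit]
        refine ((cstAdj X).unit.naturality (a • 𝟙 (lvl I M n))).symm.trans (ModuleCat.hom_ext (LinearMap.ext fun z => ?_))
        exact map_smul ((cstAdj X).unit.app (lvl I M n)).hom a z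
      rw [chatMap_π, e1, e2, Linear.comp_smul, Category.comp_id, Linear.smul_comp, Category.id_comp]
    rw [pre_apply, e, Ext.mk₀_smul, Ext.smul_comp, Ext.mk₀_id_comp]
  have hker : ∀ (m : ℕ) (x : Ext.{u + 1} (chat X I M) F m), pre (eta X I M) F m x = 0 →
      ∃ y, pre (eta X I M) F m y = 0 ∧ a • y = x := fun m x hx => by
    have h0 : Square.δ (F := F) sq.top sq.htop m x = 0 := (h₃ (m + 1)).1 (by
      rw [map_zero]
      refine (sq.δ_natural m x).trans ?_
      show Square.δ (F := F) sq.bot sq.hbot m (pre (eta X I M) F m x) = 0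
      rw [hx]
      simp [Square.δ])
    obtain ⟨y, hy⟩ := Ext.contravariant_sequence_exact₁ sq.htop F x _ h0
    have hy' : a • y = x := (ht m y).symm.trans hy
    obtain ⟨z, hz⟩ := Ext.contravariant_sequence_exact₂ sq.hbot F (pre (eta X I M) F m y)
      ((hb m _).trans (by rw [← map_smul, hy', hx]))
    obtain ⟨w, rfl⟩ := (h₃ m).2 z
    refine ⟨y - pre sq.top.g F m w, ?_, ?_⟩
    · rw [map_sub, sub_eq_zero]
      exact hz.symm.trans (pre_swap sq.φ.comm₂₃ w).symm
    · rw [smul_sub, hy', sub_eq_self, ← ht m]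
      show pre sq.top.f F m (pre sq.top.g F m w) = 0
      rw [pre_comp, sq.top.zero, pre_apply, Ext.mk₀_zero, Ext.zero_comp]
  have hinj : ∀ m, Function.Injective (pre (eta X I M) F m) := fun m =>
    (injective_iff_map_eq_zero _).2 fun x hx => by
      let T := {t : Ext.{u + 1} (chat X I M) F m // pre (eta X I M) F m t = 0}
      choose nxt h1 h2 using hker m
      let s : ℕ → T := fun i => Nat.rec ⟨x, hx⟩ (fun _ t => ⟨nxt t.1 t.2, h1 t.1 t.2⟩) i
      exact congrFun ((tzMod_ext hF ha (chat X I M) m).seq_eq_zero (x := fun i => (s i).1)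
        fun i => h2 (s i).1 (s i).2) 0
  intro m
  refine ⟨hinj m, fun b => ?_⟩
  have step : ∀ b : Ext.{u + 1} ((cst X).obj M) F m, ∃ y b', b = pre (eta X I M) F m y + a • b' := fun b => by
    obtain ⟨w, hw⟩ := (h₃ (m + 1)).2 (Square.δ (F := F) sq.bot sq.hbot m b)
    have h0 : pre sq.top.g F (m + 1) w = 0 := hinj (m + 1) (by
      rw [map_zero]
      refine (pre_swap sq.φ.comm₂₃ w).trans ((congrArg (pre sq.bot.g F (m + 1)) hw).trans ?_)
      exact ShortComplex.ShortExact.comp_extClass_assoc _ _ _)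
    obtain ⟨y, hy⟩ := Ext.contravariant_sequence_exact₃ sq.htop F w h0 (Nat.add_comm 1 m)
    have h1 : Square.δ (F := F) sq.bot sq.hbot m (b - pre (eta X I M) F m y) = 0 := by
      show sq.hbot.extClass.comp _ _ = 0
      rw [sub_eq_add_neg, Ext.comp_add, Ext.comp_neg, ← sub_eq_add_neg, sub_eq_zero]
      exact (hw.symm.trans (congrArg _ hy.symm)).trans (sq.δ_natural m y)
    obtain ⟨b', hb'⟩ := Ext.contravariant_sequence_exact₁ sq.hbot F _ _ h1
    exact ⟨y, b', by rw [← hb m b', ← sub_eq_iff_eq_add']; exact hb'.symm⟩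
  choose y b' hyb using step
  let B : ℕ → Ext.{u + 1} ((cst X).obj M) F m := fun i => Nat.rec b (fun _ t => b' t) i
  obtain ⟨x, hx⟩ := (tzMod_ext hF ha (chat X I M) m).exists_seq fun i => y (B i)
  have := (tzMod_ext hF ha ((cst X).obj M) m).seq_eq_zero (x := fun i => pre (eta X I M) F m (x i) - B i) fun i => by
    have e : B i - pre (eta X I M) F m (y (B i)) = a • B (i + 1) := sub_eq_iff_eq_add'.2 (hyb (B i))
    rw [smul_sub, ← e, hx i, map_add, map_smul]
    abel
  exact ⟨x 0, sub_eq_zero.1 (congrFun this 0)⟩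

theorem good_of_list (I : Ideal Λ) (F : EtModW.ModP Λ X) (hF : _root_.ProEtDC.IsDCSheaf Λ I F) :
    ∀ (l : List Λ) (done : Set Λ), (∀ x ∈ l, x ∈ I) → Ideal.span (done ∪ {x | x ∈ l}) = I →
      ∀ (M : ModuleCat.{u + 1} Λ), Module.Finite Λ M → (∀ d ∈ done, ∀ x : M, d • x = 0) → Good X I F M := by
  intro l
  induction l with
  | nil =>
    intro done _ hspan M _ hkill n
    haveI : IsIso (eta X I M) := isIso_eta I M fun c hc x => by
      rw [← hspan] at hc
      have hann : done ∪ {x | x ∈ ([] : List Λ)} ⊆ (Module.annihilator Λ M : Set Λ) := by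
        rintro d (hd | hd)
        · exact Module.mem_annihilator.2 (hkill d hd)
        · simp at hd
      exact Module.mem_annihilator.1 (Ideal.span_le.2 hann hc) x
    refine Function.bijective_iff_has_inverse.2 ⟨pre (inv (eta X I M)) F n, fun x => ?_, fun x => ?_⟩
    · rw [pre_comp, IsIso.inv_hom_id, pre_apply, Ext.mk₀_id_comp]
    · rw [pre_comp, IsIso.hom_inv_id, pre_apply, Ext.mk₀_id_comp]
  | cons a l ih =>
    intro done hl hspan M hM hkill
    have ha : a ∈ I := hl a List.mem_cons_self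
    have hI : Ideal.span (insert a done ∪ {x | x ∈ l}) = I := by
      rw [← hspan]
      congr 1
      ext x
      simp only [Set.mem_union, Set.mem_insert_iff, Set.mem_setOf_eq, List.mem_cons]
      tauto
    have hl' : ∀ x ∈ l, x ∈ I := fun x hx => hl x (List.mem_cons_of_mem _ hx)
    have base : ∀ (N : ModuleCat.{u + 1} Λ), Module.Finite Λ N → (∀ d ∈ done, ∀ x : N, d • x = 0) →
        (∀ x : N, a • x = 0) → Good X I F N := fun N hN hd ha' =>
      ih (insert a done) hl' hI N hN fun d hd' x => (Set.mem_insert_iff.1 hd').elim (fun e => e ▸ ha' x)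
        fun h => hd d h x
    have kill : ∀ (k : ℕ) (N : ModuleCat.{u + 1} Λ), Module.Finite Λ N → (∀ d ∈ done, ∀ x : N, d • x = 0) →
        (∀ x : N, a ^ k • x = 0) → Good X I F N := fun k => by
      induction k with
      | zero =>
        intro N hN hd h0
        exact base N hN hd fun x => by rw [← one_smul Λ x, ← pow_zero a, h0, smul_zero]
      | succ k ihk =>
        intro N hN hd h0
        let R : Submodule Λ N := LinearMap.range (a • LinearMap.id)
        refine good_of_subSeq I F R (ihk _ inferInstance (fun d hd' x => Subtype.ext (hd d hd' x.1)) ?_)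
          (base _ inferInstance (fun d hd' q => ?_) fun q => ?_)
        · rintro ⟨x, z, rfl⟩
          exact Subtype.ext (show a ^ k • a • z = 0 by rw [smul_smul, ← pow_succ, h0])
        · obtain ⟨x, rfl⟩ := Submodule.mkQ_surjective R q
          rw [← map_smul, hd d hd', map_zero]
        · obtain ⟨x, rfl⟩ := Submodule.mkQ_surjective R q
          rw [← map_smul]
          exact (Submodule.Quotient.mk_eq_zero R).2 ⟨x, rfl⟩
    let T : ℕ →o Submodule Λ M :=
      { toFun := fun k => LinearMap.ker (a ^ k • LinearMap.id : M →ₗ[Λ] M)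
        monotone' := fun i j hij x hx => by
          obtain ⟨d, rfl⟩ := Nat.exists_eq_add_of_le hij
          rw [LinearMap.mem_ker, LinearMap.smul_apply, LinearMap.id_apply] at hx ⊢
          rw [add_comm, pow_add, mul_smul, hx, smul_zero] }
    haveI : IsNoetherian Λ M := isNoetherian_of_isNoetherianRing_of_finite Λ M
    obtain ⟨N, hN⟩ := (monotone_stabilizes_iff_noetherian).2 ‹IsNoetherian Λ M› T
    have hdQ : ∀ d ∈ done, ∀ q : M ⧸ T N, d • q = 0 := fun d hd q => by
      obtain ⟨x, rfl⟩ := Submodule.mkQ_surjective _ q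
      rw [← map_smul, hkill d hd, map_zero]
    refine good_of_subSeq I F (T N) (kill N _ inferInstance (fun d hd x => Subtype.ext (hkill d hd x.1))
      fun x => Subtype.ext x.2) ?_
    refine good_of_regular I F hF ha _ (fun q hq => ?_) (base _ inferInstance (fun d hd q => ?_) fun q => ?_)
    · obtain ⟨x, rfl⟩ := Submodule.mkQ_surjective (T N) q
      rw [← map_smul] at hq
      have hx : a • x ∈ T N := (Submodule.Quotient.mk_eq_zero _).1 hq
      refine (Submodule.Quotient.mk_eq_zero _).2 ?_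
      rw [hN (N + 1) N.le_succ]
      show (a ^ (N + 1) • LinearMap.id : M →ₗ[Λ] M) x = 0
      rw [LinearMap.smul_apply, LinearMap.id_apply, pow_succ, mul_smul]
      exact hx
    · obtain ⟨z, rfl⟩ := Submodule.mkQ_surjective _ q
      rw [← map_smul, hdQ d hd, map_zero]
    · obtain ⟨z, rfl⟩ := Submodule.mkQ_surjective _ q
      rw [← map_smul]
      exact (Submodule.Quotient.mk_eq_zero _).2 ⟨z, rfl⟩

/-- Maps from the completed constant sheaf to a derived complete sheaf extend maps from the constant sheaf. -/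
theorem exists_extend (I : Ideal Λ) (F : EtModW.ModP Λ X) (hF : _root_.ProEtDC.IsDCSheaf Λ I F)
    (g : (cst X).obj (ModuleCat.of Λ Λ) ⟶ F) :
    ∃ g' : _root_.ProEtDC.lambdaHat Λ X I ⟶ F, eta X I (ModuleCat.of Λ Λ) ≫ g' = g := by
  obtain ⟨S, hS⟩ := (IsNoetherian.noetherian I : Submodule.FG I)
  have h : Good X I F (ModuleCat.of Λ Λ) := good_of_list I F hF S.toList ∅
    (fun x hx => hS ▸ Submodule.subset_span (Finset.mem_toList.1 hx))
    (by rw [Set.empty_union, ← hS]; simp only [Finset.mem_toList]; rfl) _ (inferInstanceAs (Module.Finite Λ Λ))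
    (fun d hd => hd.elim)
  obtain ⟨x, hx⟩ := (h 0).2 (Ext.mk₀ g)
  obtain ⟨g', rfl⟩ := (Ext.mk₀_bijective _ _).2 x
  refine ⟨g', (Ext.mk₀_bijective _ _).1 ?_⟩
  rw [← hx, pre_apply]
  exact (Ext.mk₀_comp_mk₀ _ _).symm

end Groth.L27.ProEtDC
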