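import Groth.Prelude.Def_ProEtDC
import Groth.Agent.L27.ProEt.Covers
import Groth.Agent.L10.SeqColim
import Mathlib.CategoryTheory.Linear.FunctorCategory
import Mathlib.Algebra.Category.ModuleCat.Basic

/-! # Free sheaves of modules on the small pro-etale site -/

universe u

open CategoryTheory CategoryTheory.Limits AlgebraicGeometry Opposite

set_option backward.isDefEq.respectTransparency false
set_option backward.defeqAttrib.useBackward true
set_option linter.style.haveILetI false
set_option linter.unusedSectionVars false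

noncomputable section

namespace Groth.L27.ProEtDC

variable {Λ : Type (u + 1)} [CommRing Λ] {X : Scheme.{u}}

/-- Extension by zero from `U` of constant sheaves. -/
abbrev extC (U : X.ProEt) : ModuleCat.{u + 1} Λ ⥤ EtModW.ModP Λ X :=
  constantSheaf ((Scheme.ProEt.topology X).over U) (ModuleCat.{u + 1} Λ) ⋙ _root_.ProEtDC.extZeroModP Λ U

/-- Sections over `U`. -/
abbrev sec (U : X.ProEt) : EtModW.ModP Λ X ⥤ ModuleCat.{u + 1} Λ :=
  sheafToPresheaf _ _ ⋙ (evaluation _ _).obj (op U)

/-- Extension by zero of constant sheaves is left adjoint to taking sections. -/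
def extCAdj (U : X.ProEt) : extC (Λ := Λ) U ⊣ sec U :=
  ((constantSheafAdj ((Scheme.ProEt.topology X).over U) (ModuleCat.{u + 1} Λ) Over.mkIdTerminal).comp
    ((Over.forget U).sheafAdjunctionContinuous (ModuleCat.{u + 1} Λ) ((Scheme.ProEt.topology X).over U)
      (Scheme.ProEt.topology X))).ofNatIsoRight (Iso.refl _)

instance (U : X.ProEt) : (extC (Λ := Λ) U).IsLeftAdjoint := (extCAdj U).isLeftAdjoint

instance (U : X.ProEt) : (extC (Λ := Λ) U).Additive := (extCAdj (Λ := Λ) U).left_adjoint_additive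

/-- The free sheaf on `U`. -/
abbrev free (Λ : Type (u + 1)) [CommRing Λ] (U : X.ProEt) : EtModW.ModP Λ X :=
  (extC U).obj (ModuleCat.of Λ Λ)

/-- A map out of the free sheaf as a section. -/
def secOf {U : X.ProEt} {F : EtModW.ModP Λ X} (h : free Λ U ⟶ F) : F.obj.obj (op U) :=
  (extCAdj U).homEquiv _ _ h (1 : Λ)

theorem secOf_eq {U : X.ProEt} {F : EtModW.ModP Λ X} (h : free Λ U ⟶ F) :
    secOf h = h.hom.app (op U) (secOf (𝟙 (free Λ U))) := by
  have e := (extCAdj (Λ := Λ) U).homEquiv_naturality_right (𝟙 (free Λ U)) h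
  rw [Category.id_comp] at e
  exact congrArg (fun φ : ModuleCat.of Λ Λ ⟶ (sec U).obj F => φ (1 : Λ)) e

theorem bijective_secOf (U : X.ProEt) (F : EtModW.ModP Λ X) :
    Function.Bijective (secOf : (free Λ U ⟶ F) → F.obj.obj (op U)) := by
  refine Function.Bijective.comp (g := fun φ : ModuleCat.of Λ Λ ⟶ (sec U).obj F => φ (1 : Λ)) ?_
    ((extCAdj U).homEquiv _ _).bijective
  refine ⟨fun φ ψ h => ModuleCat.hom_ext (LinearMap.ext_ring h), fun x =>
    ⟨ModuleCat.ofHom (LinearMap.toSpanSingleton Λ _ x), LinearMap.toSpanSingleton_apply_one Λ _ x⟩⟩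

/-- Maps out of the free sheaf are sections. -/
def secEquiv (U : X.ProEt) (F : EtModW.ModP Λ X) : (free Λ U ⟶ F) ≃ₗ[Λ] F.obj.obj (op U) :=
  LinearEquiv.ofBijective
    { toFun := secOf
      map_add' := fun g h => by rw [secOf_eq (g + h), secOf_eq g, secOf_eq h]; rfl
      map_smul' := fun a h => by rw [RingHom.id_apply, secOf_eq (a • h), secOf_eq h]; rfl }
    (bijective_secOf U F)

theorem secEquiv_comp {U : X.ProEt} {F G : EtModW.ModP Λ X} (h : free Λ U ⟶ F) (φ : F ⟶ G) :
    secEquiv U G (h ≫ φ) = φ.hom.app (op U) (secEquiv U F h) :=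
  congrArg (fun ψ : ModuleCat.of Λ Λ ⟶ (sec U).obj G => ψ (1 : Λ))
    ((extCAdj (Λ := Λ) U).homEquiv_naturality_right h φ)

/-- A compatible system of fractions gives a map out of the localisation. -/
theorem exists_linearMap_away {M : Type*} [AddCommGroup M] [Module Λ M] (f : Λ) (x : ℕ → M)
    (hx : ∀ n, x n = f • x (n + 1)) :
    ∃ φ : Localization.Away f →ₗ[Λ] M, ∀ n, φ (IsLocalization.Away.invSelf f ^ n) = x n := by
  let ι := algebraMap Λ (Localization.Away f)
  let t : Localization.Away f := IsLocalization.Away.invSelf f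
  have ht : ∀ n, ι f ^ n * t ^ n = 1 := fun n => by
    rw [← mul_pow, IsLocalization.Away.mul_invSelf, one_pow]
  have hxk : ∀ n k, x n = f ^ k • x (n + k) := fun n k => by
    induction k with
    | zero => rw [pow_zero, one_smul, add_zero]
    | succ k ih => rw [ih, hx (n + k), smul_smul, ← pow_succ, add_assoc]
  have well : ∀ (z : Localization.Away f) (n m : ℕ) (a b : Λ), z * ι f ^ n = ι a → z * ι f ^ m = ι b →
      a • x n = b • x m := fun z n m a b ha hb => by
    have h : ι (f ^ m * a) = ι (f ^ n * b) := by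
      simp only [map_mul, map_pow, ← ha, ← hb]
      ring
    obtain ⟨k, hk⟩ := IsLocalization.Away.exists_of_eq f h
    rw [hxk n (k + m), hxk m (k + n), smul_smul, smul_smul, ← add_assoc, ← add_assoc, add_right_comm m k,
      add_right_comm n k, add_comm m n]
    congr 1
    rw [pow_add, pow_add]
    linear_combination hk
  choose n a hna using fun z : Localization.Away f => IsLocalization.Away.surj f z
  refine ⟨{ toFun := fun z => a z • x (n z), map_add' := fun z z' => ?_, map_smul' := fun r z => ?_ }, fun k => ?_⟩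
  · rw [well (z + z') (n (z + z')) (n z + n z') (a (z + z')) (a z * f ^ n z' + a z' * f ^ n z) (hna _) (by
      simp only [map_add, map_mul, map_pow, ← hna, ι]; ring), add_smul, mul_smul, mul_smul, ← hxk,
      add_comm (n z) (n z'), ← hxk]
  · rw [RingHom.id_apply, smul_smul, well (r • z) (n (r • z)) (n z) (a (r • z)) (r * a z) (hna _) (by
      simp only [Algebra.smul_def, map_mul, ← hna, ι]; ring)]
  · show a (t ^ k) • x (n (t ^ k)) = x k
    rw [well (t ^ k) (n (t ^ k)) k (a (t ^ k)) 1 (hna _) (by rw [map_one, mul_comm, ht]), one_smul]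

/-- A linear map out of the localisation is determined by its values on the fractions `1 / f ^ n`. -/
theorem ext_away {M : Type*} [AddCommGroup M] [Module Λ M] (f : Λ) {φ ψ : Localization.Away f →ₗ[Λ] M}
    (h : ∀ n, φ (IsLocalization.Away.invSelf f ^ n) = ψ (IsLocalization.Away.invSelf f ^ n)) : φ = ψ := by
  refine LinearMap.ext fun z => ?_
  obtain ⟨n, a, hna⟩ := IsLocalization.Away.surj f z
  have hz : z = a • (IsLocalization.Away.invSelf f : Localization.Away f) ^ n := by
    rw [Algebra.smul_def, ← hna, mul_assoc, ← mul_pow, IsLocalization.Away.mul_invSelf, one_pow, mul_one]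
  rw [hz, map_smul, map_smul, h]

/-- The `n`th fraction `1 / f ^ n`. -/
def frac (U : X.ProEt) (f : Λ) (n : ℕ) : free Λ U ⟶ _root_.ProEtDC.locExt Λ U f :=
  (extC U).map (ModuleCat.ofHom
    (LinearMap.toSpanSingleton Λ (Localization.Away f) (IsLocalization.Away.invSelf f ^ n)))

theorem frac_comp (U : X.ProEt) (f : Λ) (n : ℕ) {F : EtModW.ModP Λ X} (g : _root_.ProEtDC.locExt Λ U f ⟶ F) :
    secEquiv U F (frac U f n ≫ g) =
      (extCAdj U).homEquiv (ModuleCat.of Λ (Localization.Away f)) F g (IsLocalization.Away.invSelf f ^ n) := by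
  refine (congrArg (fun φ : ModuleCat.of Λ Λ ⟶ (sec U).obj F => φ (1 : Λ))
    ((extCAdj (Λ := Λ) U).homEquiv_naturality_left (X := ModuleCat.of Λ (Localization.Away f)) _ g)).trans ?_
  exact congrArg ((extCAdj U).homEquiv (ModuleCat.of Λ (Localization.Away f)) F g)
    (LinearMap.toSpanSingleton_apply_one Λ _ _)

theorem frac_eq (U : X.ProEt) (f : Λ) (n : ℕ) : frac U f n = f • frac U f (n + 1) := by
  apply (secEquiv U _).injective
  have h0 := frac_comp U f n (𝟙 _)
  have h1 := frac_comp U f (n + 1) (𝟙 _)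
  rw [Category.comp_id] at h0 h1
  rw [map_smul, h0, h1]
  refine Eq.trans (congrArg _ ?_) (map_smul _ f _)
  rw [Algebra.smul_def, pow_succ', ← mul_assoc, IsLocalization.Away.mul_invSelf, one_mul]

/-- The map to a telescope from a countable sum. -/
def tele (U : X.ProEt) (f : Λ) : (∐ fun _ : ℕ => free Λ U) ⟶ ∐ fun _ : ℕ => free Λ U :=
  𝟙 _ - DerLim.shiftMap (fun _ : ℕ => free Λ U) (fun _ => f • 𝟙 _)

theorem ι_tele (U : X.ProEt) (f : Λ) (n : ℕ) : Sigma.ι (fun _ : ℕ => free Λ U) n ≫ tele U f =
    Sigma.ι (fun _ : ℕ => free Λ U) n - f • Sigma.ι (fun _ : ℕ => free Λ U) (n + 1) := by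
  simp [tele, DerLim.shiftMap]

theorem tele_desc (U : X.ProEt) (f : Λ) {F : EtModW.ModP Λ X} (x : ℕ → (free Λ U ⟶ F)) :
    tele U f ≫ Sigma.desc x = Sigma.desc fun n => x n - f • x (n + 1) := by
  refine Sigma.hom_ext _ _ fun n => ?_
  rw [← Category.assoc, ι_tele]
  simp

/-- The comparison of the cokernel of the telescope with the extension of the localisation. -/
def teleDesc (U : X.ProEt) (f : Λ) : cokernel (tele U f) ⟶ _root_.ProEtDC.locExt Λ U f :=
  cokernel.desc _ (Sigma.desc (frac U f)) (by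
    rw [tele_desc]
    exact Sigma.hom_ext _ _ fun n => by rw [Sigma.ι_desc, comp_zero, sub_eq_zero, ← frac_eq])

theorem ι_teleDesc (U : X.ProEt) (f : Λ) (n : ℕ) :
    Sigma.ι (fun _ : ℕ => free Λ U) n ≫ cokernel.π (tele U f) ≫ teleDesc U f = frac U f n := by
  rw [teleDesc, cokernel.π_desc, Sigma.ι_desc]

instance isIso_teleDesc (U : X.ProEt) (f : Λ) : IsIso (teleDesc U f) := by
  refine isIso_of_coyoneda_map_bijective _ fun F => ⟨fun g g' h => ?_, fun e => ?_⟩
  · have hn : ∀ n, frac U f n ≫ g = frac U f n ≫ g' := fun n => by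
      simp only [← ι_teleDesc, Category.assoc]
      exact congrArg (fun k => Sigma.ι (fun _ : ℕ => free Λ U) n ≫ cokernel.π (tele U f) ≫ k) h
    refine ((extCAdj U).homEquiv (ModuleCat.of Λ (Localization.Away f)) F).injective ?_
    refine ModuleCat.hom_ext (ext_away f fun n => ?_)
    exact (frac_comp U f n g).symm.trans ((congrArg (secEquiv U F) (hn n)).trans (frac_comp U f n g'))
  · let x : ℕ → (free Λ U ⟶ F) := fun n => Sigma.ι (fun _ : ℕ => free Λ U) n ≫ cokernel.π (tele U f) ≫ e
    have hx : ∀ n, x n = f • x (n + 1) := fun n => by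
      have h : (Sigma.ι (fun _ : ℕ => free Λ U) n - f • Sigma.ι (fun _ : ℕ => free Λ U) (n + 1)) ≫
          cokernel.π (tele U f) ≫ e = 0 := by
        rw [← ι_tele, Category.assoc, cokernel.condition_assoc, zero_comp, comp_zero]
      rw [Preadditive.sub_comp, Linear.smul_comp, sub_eq_zero] at h
      exact h
    obtain ⟨φ, hφ⟩ := exists_linearMap_away f (fun n => secEquiv U F (x n))
      fun n => by
        show secEquiv U F (x n) = f • secEquiv U F (x (n + 1))
        rw [← map_smul, ← hx]
    refine ⟨((extCAdj U).homEquiv (ModuleCat.of Λ (Localization.Away f)) F).symm (ModuleCat.ofHom φ), ?_⟩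
    refine (cancel_epi (cokernel.π (tele U f))).1 (Sigma.hom_ext _ _ fun n => ?_)
    apply (secEquiv U F).injective
    refine Eq.trans ?_ (hφ n)
    refine (congrArg (secEquiv U F) ((congrArg (_ ≫ ·) (Category.assoc _ _ _).symm).trans
      ((Category.assoc _ _ _).symm.trans (congrArg (· ≫ _) (ι_teleDesc U f n))))).trans ?_
    rw [frac_comp, Equiv.apply_symm_apply]
    rfl

/-- The free sheaf on a weakly contractible object is projective. -/
theorem projective_free {U : X.ProEt} (hU : ProEtS.IsWC U) : Projective (free Λ U) := ⟨fun {E F} g e he => by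
  let φ := (sheafCompose (Scheme.ProEt.topology X) (forget (ModuleCat.{u + 1} Λ))).map e
  haveI : Sheaf.IsLocallySurjective e := (Sheaf.isLocallySurjective_iff_epi' (φ := e)).mpr he
  haveI : Sheaf.IsLocallySurjective φ := ⟨fun {V} (s : F.obj.obj (op V)) =>
    (Presheaf.imageSieve_mem (Scheme.ProEt.topology X) e.hom s)⟩
  obtain ⟨s, hs⟩ := hU _ _ φ ((Sheaf.isLocallySurjective_iff_epi φ).mp inferInstance) (secEquiv U F g)
  refine ⟨(secEquiv U E).symm s, (secEquiv U F).injective ?_⟩
  rw [secEquiv_comp, LinearEquiv.apply_symm_apply]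
  exact hs⟩

/-- Weakly contractible objects cover. -/
theorem exists_wc_cover (U : X.ProEt) : ∃ (V : X.ProEt) (g : V ⟶ U),
    Sieve.generate (Presieve.singleton g) ∈ Scheme.ProEt.topology X U ∧ ProEtS.IsWC V := by
  obtain ⟨ι, W, hW, hc⟩ := Groth.L27.ProEt.exists_affineOpens_cover U.left
  obtain ⟨V, g, h₁, -, h₂⟩ := Groth.L27.ProEt.exists_isWC_cover U W hW hc
  exact ⟨V, g, h₁, h₂⟩

/-- Two maps of sheaves agree when they agree on sections over weakly contractible objects. -/
theorem hom_ext_wc {F G : EtModW.ModP Λ X} (a b : F ⟶ G)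
    (h : ∀ (V : X.ProEt), ProEtS.IsWC V → ∀ s : F.obj.obj (op V), a.hom.app (op V) s = b.hom.app (op V) s) :
    a = b := by
  refine ObjectProperty.hom_ext _ (NatTrans.ext (funext fun ⟨U⟩ => ModuleCat.hom_ext (LinearMap.ext fun s => ?_)))
  obtain ⟨V, g, hg, hV⟩ := exists_wc_cover U
  refine ((isSheaf_iff_isSheaf_of_type _ _).mp ((sheafCompose (Scheme.ProEt.topology X)
    (forget (ModuleCat.{u + 1} Λ))).obj G).property).isSeparated _ hg |>.ext ?_
  rintro W k ⟨W', c, k', ⟨⟩, rfl⟩
  show G.obj.map (c ≫ g).op _ = G.obj.map (c ≫ g).op _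
  rw [op_comp, Functor.map_comp_apply, Functor.map_comp_apply, ← NatTrans.naturality_apply a.hom,
    ← NatTrans.naturality_apply b.hom, h V hV]

end Groth.L27.ProEtDC
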