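import Groth.Agent.L27.ProEtDC.Extend

/-! # Epimorphisms from completed constant sheaves onto derived complete sheaves -/

universe u

open CategoryTheory CategoryTheory.Limits AlgebraicGeometry Opposite

set_option backward.isDefEq.respectTransparency false
set_option backward.defeqAttrib.useBackward true
set_option linter.style.haveILetI false
set_option linter.unusedSectionVars false

noncomputable section

namespace Groth.L27.ProEtDC

open Groth.L27.ProEt

variable {Λ : Type (u + 1)} [CommRing Λ] {X : Scheme.{u}}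

theorem sheaf_eq_zero_of_locally (Z : EtModW.ModP Λ X) {Y : X.ProEt} (R : Sieve Y)
    (hR : R ∈ Scheme.ProEt.topology X Y) (z : Z.obj.obj (op Y))
    (h : ∀ ⦃V : X.ProEt⦄ (c : V ⟶ Y), R c → Z.obj.map c.op z = 0) : z = 0 := by
  refine ((isSheaf_iff_isSheaf_of_type _ _).mp ((sheafCompose (Scheme.ProEt.topology X)
    (forget (ModuleCat.{u + 1} Λ))).obj Z).property).isSeparated _ hR |>.ext fun V c hc => ?_
  exact (h c hc).trans (map_zero (Z.obj.map c.op).hom).symm

set_option backward.isDefEq.respectTransparency.types false in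
theorem exists_glue_sections (Q : EtModW.ModP Λ X) {U : X.ProEt} {J : Type u} (W : J → U.left.Opens)
    (hd : Pairwise fun i j => Disjoint (W i : Set U.left) (W j : Set U.left))
    (hc : (⋃ j, (W j : Set U.left)) = Set.univ) (x : ∀ j, Q.obj.obj (op (mkOpen U (W j)))) :
    ∃ t : Q.obj.obj (op U), ∀ j, Q.obj.map (mkOpenHom U (W j)).op t = x j := by
  let F := (sheafCompose (Scheme.ProEt.topology X) (forget (ModuleCat.{u + 1} Λ))).obj Q
  have hF := ((isSheaf_iff_isSheaf_of_type _ _).mp F.property)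
  have hmem := ofArrows_mkOpenHom_mem W hc
  have hcompat : Presieve.Arrows.Compatible F.obj (fun j => mkOpenHom U (W j)) x := by
    intro i j Z gi gj hij
    by_cases e : i = j
    · subst e
      have : gi = gj := MorphismProperty.Over.Hom.ext
        ((cancel_mono (W i).ι).mp (congrArg (fun f : Z ⟶ U => f.left) hij))
      rw [this]
    · haveI : IsEmpty Z.left := ⟨fun z => by
        have h1 : ((gi.left z).1 : U.left) = (gj.left z).1 := by
          have := congrArg (fun f : Z ⟶ U => f.left z) hij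
          exact this
        exact Set.disjoint_left.mp (hd e) (gi.left z).2 (h1 ▸ (gj.left z).2)⟩
      exact (subsingleton_of_isEmpty F Z).elim _ _
  obtain ⟨t, ht, -⟩ := ((Presieve.isSheafFor_arrows_iff _ _).mp
    ((Presieve.isSheafFor_iff_generate _).mpr (hF _ hmem))) x hcompat
  exact ⟨t, ht⟩

/-- A locally constant sheaf of finite presentation on a w-contractible affine is generated by finitely many global
sections. -/
theorem exists_generators [IsAffine X] (hX : EtPBC.IsWContractible ↥(Γ(X, ⊤))) (Q : EtModW.ModP Λ X)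
    (hQ : EtModW.IsFPLocConstP Λ Q) :
    ∃ (t : ℕ) (q : Fin t → Q.obj.obj (op (ProEtS.topP X))), ∀ (Z : EtModW.ModP Λ X) (p : Q ⟶ Z),
      (∀ i, p.hom.app _ (q i) = 0) → p = 0 := by
  classical
  let T := ProEtS.topP X
  obtain ⟨ι, U, hU, hM⟩ := hQ
  haveI : IsAffine T.left := ‹IsAffine X›
  obtain ⟨n, W₀, -, hd₀, hc₀, hW₀⟩ := exists_refinement (U := T) hX hU
  let W : ULift.{u} (Fin n) → T.left.Opens := fun k => W₀ k.down
  have hd : Pairwise fun k l => Disjoint (W k : Set T.left) (W l : Set T.left) := fun k l hkl =>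
    hd₀ fun e => hkl (ULift.ext _ _ e)
  have hc : (⋃ k, (W k : Set T.left)) = Set.univ := Set.eq_univ_of_forall fun x => by
    obtain ⟨k, hk⟩ := Set.mem_iUnion.1 (hc₀.ge (Set.mem_univ x))
    exact Set.mem_iUnion.2 ⟨⟨k⟩, hk⟩
  have hfac : ∀ k, ∃ (i : ι), Nonempty (mkOpen T (W k) ⟶ U i) := fun k => by
    obtain ⟨_, a, _, ⟨i⟩, -⟩ := hW₀ k.down
    exact ⟨i, ⟨a⟩⟩
  choose ik gk using hfac
  choose M iM iMod iFP e using fun k => hM (ik k)
  letI := iM
  letI := iMod
  haveI := iFP
  let g := fun k => (gk k).some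
  let J := fun k => (Scheme.ProEt.topology X).over (U (ik k))
  let P := fun k => (Functor.const (Over (U (ik k)))ᵒᵖ).obj (ModuleCat.of Λ (M k))
  let tsh := fun k => toSheafify (J k) (P k)
  let qM : ∀ k, M k →ₗ[Λ] Q.obj.obj (op (U (ik k))) := fun k =>
    ((e k).some.inv.hom.app (op (Over.mk (𝟙 (U (ik k)))))).hom.comp ((tsh k).app (op (Over.mk (𝟙 (U (ik k)))))).hom
  choose s hs using fun k => (Module.Finite.fg_top (R := Λ) (M := M k))
  let x : ∀ k, s k → Q.obj.obj (op (mkOpen T (W k))) := fun k j => Q.obj.map (g k).op (qM k j.1)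
  have hglue : ∀ (k : ULift.{u} (Fin n)) (j : s k), ∃ t : Q.obj.obj (op T),
      Q.obj.map (mkOpenHom T (W k)).op t = x k j := fun k j => by
    obtain ⟨t, ht⟩ := exists_glue_sections Q W hd hc fun l => if h : l = k then h ▸ x k j else 0
    exact ⟨t, (ht k).trans (dif_pos rfl)⟩
  choose q hq using hglue
  let ev := (Fintype.equivFin (Σ k : ULift.{u} (Fin n), s k))
  refine ⟨_, fun a => q (ev.symm a).1 (ev.symm a).2, fun Z p hp => ?_⟩
  have hkill : ∀ k (m : M k), p.hom.app _ (Q.obj.map (g k).op (qM k m)) = 0 := fun k => by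
    let L : M k →ₗ[Λ] Z.obj.obj (op (mkOpen T (W k))) :=
      ((p.hom.app _).hom.comp (Q.obj.map (g k).op).hom).comp (qM k)
    have hL : (⊤ : Submodule Λ (M k)) ≤ LinearMap.ker L := by
      rw [← hs k, Submodule.span_le]
      intro m hm
      have h0 : p.hom.app _ (q k ⟨m, hm⟩) = 0 := by
        have h := hp (ev ⟨k, ⟨m, hm⟩⟩)
        dsimp only at h
        rwa [Equiv.symm_apply_apply] at h
      show p.hom.app _ (x k ⟨m, hm⟩) = 0
      rw [← hq k ⟨m, hm⟩]
      exact (NatTrans.naturality_apply p.hom _ _).trans ((congrArg _ h0).trans (map_zero (Z.obj.map _).hom))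
    exact fun m => hL (Submodule.mem_top (x := m))
  have hloc : ∀ (k : ULift.{u} (Fin n)) {V : X.ProEt} (b : V ⟶ mkOpen T (W k)) (v : Q.obj.obj (op V)),
      p.hom.app _ v = 0 := fun k V b v => by
    let Ob : Over (U (ik k)) := Over.mk (b ≫ g k)
    let w := (e k).some.hom.hom.app (op Ob) v
    refine sheaf_eq_zero_of_locally Z _ (((Scheme.ProEt.topology X).mem_over_iff _).1
      (Presheaf.imageSieve_mem (J k) (tsh k) w)) _ fun V' c hc => ?_
    rw [Sieve.overEquiv_iff] at hc
    obtain ⟨(m : M k), hm⟩ := hc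
    refine (NatTrans.naturality_apply p.hom c.op v).symm.trans ?_
    have hv : Q.obj.map c.op v = Q.obj.map (c ≫ b).op (Q.obj.map (g k).op (qM k m)) := by
      let Ob' : Over (U (ik k)) := Over.mk (c ≫ b ≫ g k)
      let c' : Ob' ⟶ Ob := Over.homMk c
      let d : Ob' ⟶ Over.mk (𝟙 (U (ik k))) := Over.homMk (c ≫ b ≫ g k) (Category.comp_id _)
      have h1 : (e k).some.hom.hom.app (op Ob') (Q.obj.map c.op v) = (tsh k).app (op Ob') m :=
        (NatTrans.naturality_apply (e k).some.hom.hom c'.op v).trans hm.symm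
      have h2 : (tsh k).app (op Ob') m = ((constantSheaf (J k) (ModuleCat.{u + 1} Λ)).obj (ModuleCat.of Λ (M k))).obj.map
          d.op ((tsh k).app (op (Over.mk (𝟙 (U (ik k))))) m) := NatTrans.naturality_apply (tsh k) d.op m
      have h3 := congrArg ((e k).some.inv.hom.app (op Ob')) (h1.trans h2)
      rw [NatTrans.naturality_apply (e k).some.inv.hom d.op] at h3
      refine ((congrArg (fun φ : Q.over (U (ik k)) ⟶ Q.over (U (ik k)) => φ.hom.app (op Ob') (Q.obj.map c.op v))
        (e k).some.hom_inv_id).symm.trans h3).trans ?_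
      show Q.obj.map (c ≫ b ≫ g k).op _ = _
      rw [← Category.assoc, op_comp, Functor.map_comp_apply]
      rfl
    rw [hv]
    exact (NatTrans.naturality_apply p.hom (c ≫ b).op _).trans
      ((congrArg _ (hkill k m)).trans (map_zero (Z.obj.map _).hom))
  refine ObjectProperty.hom_ext _ (NatTrans.ext (funext fun ⟨Y⟩ => ModuleCat.hom_ext (LinearMap.ext fun v => ?_)))
  show p.hom.app (op Y) v = 0
  let a : Y ⟶ T := (topTerminal X).from Y
  refine sheaf_eq_zero_of_locally Z _
    ((Scheme.ProEt.topology X).pullback_stable a (ofArrows_mkOpenHom_mem W hc)) _ fun V c hc' => ?_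
  obtain ⟨_, b, _, ⟨k⟩, -⟩ := hc'
  exact (NatTrans.naturality_apply p.hom c.op v).symm.trans (hloc k b _)

theorem isDCSheaf_of_iso {I : Ideal Λ} {F G : EtModW.ModP Λ X} (e : F ≅ G)
    (hF : _root_.ProEtDC.IsDCSheaf Λ I F) : _root_.ProEtDC.IsDCSheaf Λ I G := by
  rw [isDCSheaf_iff_wc] at hF ⊢
  exact fun V hV f hf => (tzMod_congr f ((sec V).mapIso e).toLinearEquiv).1 (hF V hV f hf)

theorem isDCSheaf_biproduct {I : Ideal Λ} {t : ℕ} (G : Fin t → EtModW.ModP Λ X)
    (hG : ∀ i, _root_.ProEtDC.IsDCSheaf Λ I (G i)) : _root_.ProEtDC.IsDCSheaf Λ I (⨁ G) :=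
  isDCSheaf_of_iso (biproduct.isoProduct G).symm (isDCSheaf_limit (Discrete.functor G) fun j => hG j.as)

/-- The main theorem. -/
theorem exists_epi [IsAffine X] (hX : EtPBC.IsWContractible ↥(Γ(X, ⊤))) [IsNoetherianRing Λ] {r : ℕ} (a : Fin r → Λ)
    (F : EtModW.ModP Λ X) (hF : _root_.ProEtDC.IsDCSheaf Λ (Ideal.span (Set.range a)) F)
    (hq : EtModW.IsFPLocConstP Λ (cokernel (_root_.ProEtDC.gensMap Λ a F))) :
    ∃ (t : ℕ) (φ : (⨁ fun _ : Fin t => _root_.ProEtDC.lambdaHat Λ X (Ideal.span (Set.range a))) ⟶ F), Epi φ := by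
  haveI : IsAffine (ProEtS.topP X).left := ‹IsAffine X›
  have hT : ProEtS.IsWC (ProEtS.topP X) := Groth.L27.ProEt.isWC_of_isWContractible hX
  obtain ⟨t, q, hgen⟩ := exists_generators hX _ hq
  choose y hy using fun i => surjective_app_of_epi hT (cokernel.π (_root_.ProEtDC.gensMap Λ a F)) (q i)
  let g : Fin t → ((cst X).obj (ModuleCat.of Λ Λ) ⟶ F) := fun i =>
    ((cstAdj X).homEquiv (ModuleCat.of Λ Λ) F).symm (ModuleCat.ofHom (LinearMap.toSpanSingleton Λ _ (y i)))
  choose g' hg' using fun i => exists_extend _ F hF (g i)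
  let φ : (⨁ fun _ : Fin t => _root_.ProEtDC.lambdaHat Λ X (Ideal.span (Set.range a))) ⟶ F := biproduct.desc g'
  refine ⟨t, φ, ?_⟩
  have hZ : _root_.ProEtDC.IsDCSheaf Λ (Ideal.span (Set.range a)) (cokernel φ) :=
    isDCSheaf_cokernel φ (isDCSheaf_biproduct _ fun _ => isDCSheaf_lambdaHat _) hF
  suffices h : IsZero (cokernel φ) from Preadditive.epi_of_isZero_cokernel φ h
  refine isZero_of_gens a _ hZ (Preadditive.epi_of_isZero_cokernel _ ?_)
  let π := cokernel.π φ
  let w := cokernel.π (_root_.ProEtDC.gensMap Λ a (cokernel φ))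
  have hnat : _root_.ProEtDC.gensMap Λ a F ≫ π =
      biproduct.map (fun _ : Fin r => π) ≫ _root_.ProEtDC.gensMap Λ a (cokernel φ) := by
    refine biproduct.hom_ext' _ _ fun k => ?_
    simp only [biproduct.ι_desc_assoc, biproduct.ι_map_assoc, biproduct.ι_desc]
    show (a k • 𝟙 F) ≫ π = π ≫ (a k • 𝟙 (cokernel φ))
    simp
  have h0 : _root_.ProEtDC.gensMap Λ a F ≫ π ≫ w = 0 := by
    rw [reassoc_of% hnat, cokernel.condition, comp_zero]
  let p := cokernel.desc _ _ h0
  have hp : p = 0 := hgen _ p fun i => by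
    rw [← hy i]
    have hy1 : y i = (g i).hom.app (op (ProEtS.topP X)) ((cstAdj X).unit.app (ModuleCat.of Λ Λ) (1 : Λ)) := by
      have h := congrArg (fun ψ : ModuleCat.of Λ Λ ⟶ (sec (ProEtS.topP X)).obj F => ψ (1 : Λ))
        (((cstAdj X).homEquiv (ModuleCat.of Λ Λ) F).apply_symm_apply (ModuleCat.ofHom (LinearMap.toSpanSingleton Λ _ (y i))))
      rw [Adjunction.homEquiv_unit] at h
      exact (LinearMap.toSpanSingleton_apply_one Λ _ (y i)).symm.trans h.symm
    refine (congrArg (fun ψ : F ⟶ _ => ψ.hom.app (op (ProEtS.topP X)) (y i)) (cokernel.π_desc _ _ h0)).trans ?_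
    rw [hy1]
    have e : g i ≫ π = 0 := by
      rw [← hg' i, Category.assoc, ← biproduct.ι_desc g' i, Category.assoc, cokernel.condition, comp_zero, comp_zero]
    show w.hom.app _ (π.hom.app _ ((g i).hom.app _ _)) = 0
    refine (congrArg _ (congrArg (fun ψ : (cst X).obj (ModuleCat.of Λ Λ) ⟶ _ => ψ.hom.app (op (ProEtS.topP X)) _) e)).trans ?_
    exact map_zero (w.hom.app (op (ProEtS.topP X))).hom
  have hw : π ≫ w = 0 := by rw [← cokernel.π_desc _ _ h0, show cokernel.desc _ _ h0 = p from rfl, hp, comp_zero]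
  haveI : Epi (π ≫ w) := epi_comp _ _
  exact IsZero.of_epi_eq_zero (π ≫ w) hw

end Groth.L27.ProEtDC
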