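import Groth.Agent.L27.ProEtDC.Criterion
import Mathlib.Algebra.Category.ModuleCat.Limits
import Mathlib.CategoryTheory.Limits.Types.Limits

/-! # Stability of derived completeness on the small pro-etale site -/

universe u

open CategoryTheory CategoryTheory.Limits AlgebraicGeometry Opposite

set_option backward.isDefEq.respectTransparency false
set_option backward.defeqAttrib.useBackward true
set_option linter.style.haveILetI false
set_option linter.unusedSectionVars false

noncomputable section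

namespace Groth.L27.ProEtDC

open Groth.L04.DerComp Groth.L04.RGamma

variable {Λ : Type (u + 1)} [CommRing Λ] {X : Scheme.{u}}

instance (U : X.ProEt) : (sec (Λ := Λ) U).IsRightAdjoint := (extCAdj U).isRightAdjoint

instance (U : X.ProEt) : (sec (Λ := Λ) U).Additive := (extCAdj (Λ := Λ) U).right_adjoint_additive

/-- Epimorphisms are surjective on sections over weakly contractible objects. -/
theorem surjective_app_of_epi {U : X.ProEt} (hU : ProEtS.IsWC U) {F G : EtModW.ModP Λ X} (φ : F ⟶ G) [Epi φ] :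
    Function.Surjective (φ.hom.app (op U)) := fun s => by
  haveI := projective_free (Λ := Λ) hU
  refine ⟨secEquiv U F (Projective.factorThru ((secEquiv U G).symm s) φ), ?_⟩
  rw [← secEquiv_comp, Projective.factorThru_comp, LinearEquiv.apply_symm_apply]

theorem preservesEpimorphisms_sec {U : X.ProEt} (hU : ProEtS.IsWC U) : (sec (Λ := Λ) U).PreservesEpimorphisms :=
  ⟨fun φ _ => (ModuleCat.epi_iff_surjective _).2 (surjective_app_of_epi hU φ)⟩

theorem preservesFiniteColimits_sec {U : X.ProEt} (hU : ProEtS.IsWC U) : PreservesFiniteColimits (sec (Λ := Λ) U) := by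
  haveI := preservesEpimorphisms_sec (Λ := Λ) hU
  haveI : (sec (Λ := Λ) U).PreservesHomology :=
    Functor.preservesHomology_of_preservesEpis_and_kernels _
  exact (((Functor.exact_tfae (sec (Λ := Λ) U)).out 2 3 :
    (sec (Λ := Λ) U).PreservesHomology ↔ (PreservesFiniteLimits (sec (Λ := Λ) U) ∧ PreservesFiniteColimits (sec (Λ := Λ) U))).1 inferInstance).2

/-- Completeness passes to kernels. -/
theorem tzMod_kernel {A B : ModuleCat.{u + 1} Λ} (u' : A ⟶ B) {f : Λ} (hA : TzMod f A) (hB : TzMod f B) :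
    TzMod f (kernel u' :) :=
  (tzMod_congr f (ModuleCat.kernelIsoKer u').toLinearEquiv).2 (hA.ker u'.hom hB)

/-- Completeness passes to cokernels. -/
theorem tzMod_cokernel {A B : ModuleCat.{u + 1} Λ} (u' : A ⟶ B) {f : Λ} (hA : TzMod f A) (hB : TzMod f B) :
    TzMod f (cokernel u' :) :=
  (tzMod_congr f (ModuleCat.cokernelIsoRangeQuotient u').toLinearEquiv).2 (TzMod.coker u'.hom hA hB)

theorem isDCSheaf_kernel {I : Ideal Λ} {F G : EtModW.ModP Λ X} (φ : F ⟶ G)
    (hF : _root_.ProEtDC.IsDCSheaf Λ I F) (hG : _root_.ProEtDC.IsDCSheaf Λ I G) :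
    _root_.ProEtDC.IsDCSheaf Λ I (kernel φ) := by
  rw [isDCSheaf_iff_wc] at hF hG ⊢
  intro V hV f hf
  exact (tzMod_congr f (PreservesKernel.iso (sec V) φ).toLinearEquiv).2
    (tzMod_kernel ((sec V).map φ) (hF V hV f hf) (hG V hV f hf))

theorem isDCSheaf_cokernel {I : Ideal Λ} {F G : EtModW.ModP Λ X} (φ : F ⟶ G)
    (hF : _root_.ProEtDC.IsDCSheaf Λ I F) (hG : _root_.ProEtDC.IsDCSheaf Λ I G) :
    _root_.ProEtDC.IsDCSheaf Λ I (cokernel φ) := by
  rw [isDCSheaf_iff_wc] at hF hG ⊢
  intro V hV f hf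
  haveI := preservesFiniteColimits_sec (Λ := Λ) hV
  exact (tzMod_congr f (PreservesCokernel.iso (sec V) φ).toLinearEquiv).2
    (tzMod_cokernel ((sec V).map φ) (hF V hV f hf) (hG V hV f hf))

theorem isDCSheaf_extension {I : Ideal Λ} {S : ShortComplex (EtModW.ModP Λ X)} (hS : S.ShortExact)
    (h₁ : _root_.ProEtDC.IsDCSheaf Λ I S.X₁) (h₃ : _root_.ProEtDC.IsDCSheaf Λ I S.X₃) :
    _root_.ProEtDC.IsDCSheaf Λ I S.X₂ := by
  rw [isDCSheaf_iff_wc] at h₁ h₃ ⊢
  intro V hV f hf
  haveI := preservesFiniteColimits_sec (Λ := Λ) hV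
  have hT : (S.map (sec V)).ShortExact := hS.map_of_exact (sec V)
  let T := S.map (sec V)
  let M₁ : Submodule Λ T.X₂ := LinearMap.range T.f.hom
  have hinj : Function.Injective T.f.hom := hT.moduleCat_injective_f
  have hsur : Function.Surjective T.g.hom := hT.moduleCat_surjective_g
  have he : LinearMap.ker T.g.hom = M₁ := LinearMap.exact_iff.1 ((ShortComplex.ShortExact.moduleCat_exact_iff_function_exact T).1 hT.exact)
  refine TzMod.extension M₁ ((tzMod_congr f (LinearEquiv.ofInjective T.f.hom hinj)).1 (h₁ V hV f hf)) ?_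
  exact (tzMod_congr f ((Submodule.quotEquivOfEq _ _ he.symm).trans (T.g.hom.quotKerEquivOfSurjective hsur))).2
    (h₃ V hV f hf)

theorem isDCSheaf_limit {J : Type} [SmallCategory J] {I : Ideal Λ} (D : J ⥤ EtModW.ModP Λ X) [HasLimit D]
    (hD : ∀ j, _root_.ProEtDC.IsDCSheaf Λ I (D.obj j)) : _root_.ProEtDC.IsDCSheaf Λ I (limit D) := by
  rw [isDCSheaf_iff_wc]
  intro V hV f hf
  let E := D ⋙ sec V
  let hlim : IsLimit ((sec V).mapCone (limit.cone D)) := isLimitOfPreserves (sec V) (limit.isLimit D)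
  let hlimT := isLimitOfPreserves (forget (ModuleCat.{u + 1} Λ)) hlim
  let π : ∀ j, (limit D).obj.obj (op V) →ₗ[Λ] E.obj j := fun j => ((sec V).map (limit.π D j)).hom
  have hT : ∀ j, TzMod f (E.obj j) := fun j => (isDCSheaf_iff_wc I _).1 (hD j) V hV f hf
  have hinj : ∀ x y : (limit D).obj.obj (op V), (∀ j, π j x = π j y) → x = y := fun x y h =>
    Concrete.isLimit_ext E hlim x y h
  refine tzMod_iff.2 fun y => ?_
  choose x hx hu using fun j => tzMod_iff.1 (hT j) fun i => π j (y i)
  have hcompat : ∀ {j k : J} (a : j ⟶ k) (i : ℕ), E.map a (x j i) = x k i := fun {j k} a i => by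
    refine congrFun (hu k (fun i => E.map a (x j i)) fun i => ?_) i
    have hw : ∀ z, E.map a (π j z) = π k z := fun z =>
      congrArg (fun φ : (sec V).obj (limit D) ⟶ E.obj k => φ z)
        (((sec V).map_comp _ _).symm.trans (congrArg (sec V).map (limit.w D a)))
    show E.map a (x j i) - f • E.map a (x j (i + 1)) = π k (y i)
    rw [← hw, ← hx j i, map_sub, map_smul]
  let z : ℕ → (limit D).obj.obj (op V) := fun i =>
    (Types.isLimitEquivSections (F := E ⋙ forget (ModuleCat.{u + 1} Λ)) hlimT).symm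
      ⟨fun j => x j i, fun a => hcompat a i⟩
  have hz : ∀ i j, π j (z i) = x j i := fun i j =>
    Types.isLimitEquivSections_symm_apply (F := E ⋙ forget (ModuleCat.{u + 1} Λ)) hlimT _ j
  refine ⟨z, fun i => hinj _ _ fun j => by rw [map_sub, map_smul, hz, hz, hx j i], fun w hw => funext fun i => ?_⟩
  refine hinj _ _ fun j => ?_
  rw [hz]
  exact congrFun (hu j (fun i => π j (w i)) fun i => by
    show π j (w i) - f • π j (w (i + 1)) = π j (y i)
    rw [← hw i, map_sub, map_smul]) i

theorem pow_smul_const_eq_zero {M : ModuleCat.{u + 1} Λ} {a : Λ} (h : ∀ x : M, a • x = 0) :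
    a • 𝟙 ((constantSheaf (Scheme.ProEt.topology X) (ModuleCat.{u + 1} Λ)).obj M) = 0 := by
  let adj := constantSheafAdj (Scheme.ProEt.topology X) (ModuleCat.{u + 1} Λ)
    (IsTerminal.ofUniqueHom (Y := ProEtS.topP X) (fun U => (MorphismProperty.Over.homMk U.hom (Category.comp_id _) trivial : U ⟶ ProEtS.topP X))
      fun U g => MorphismProperty.Over.Hom.ext ((Category.comp_id g.left).symm.trans (MorphismProperty.Over.w g)))
  refine (adj.homEquiv _ _).injective ?_
  rw [Adjunction.homEquiv_unit, Adjunction.homEquiv_unit]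
  refine ModuleCat.hom_ext (LinearMap.ext fun x => ?_)
  show a • adj.unit.app M x = 0
  exact (map_smul (adj.unit.app M).hom a x).symm.trans ((congrArg _ (h x)).trans (map_zero _))

theorem isDCSheaf_lambdaHat (I : Ideal Λ) : _root_.ProEtDC.IsDCSheaf Λ I (_root_.ProEtDC.lambdaHat Λ X I) :=
  isDCSheaf_limit _ fun n => (isDCSheaf_iff_wc I _).2 fun V _ f hf =>
    TzMod.of_pow_smul_eq_zero (n := n.unop) fun x => by
      have h := pow_smul_const_eq_zero (X := X) (M := (_root_.ProEtDC.quotTower Λ I).obj n) (a := f ^ n.unop)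
        (fun x => by
          obtain ⟨b, rfl⟩ := Submodule.mkQ_surjective _ x
          exact (Submodule.Quotient.mk_eq_zero _).2
            (Submodule.smul_mem_smul (Ideal.pow_mem_pow hf n.unop) Submodule.mem_top))
      exact congrArg (fun φ : (_root_.ProEtDC.quotTower Λ I ⋙ constantSheaf (Scheme.ProEt.topology X)
        (ModuleCat.{u + 1} Λ)).obj n ⟶ _ => φ.hom.app (op V) x) h

/-- Nakayama for derived complete sheaves. -/
theorem isZero_of_gens {r : ℕ} (a : Fin r → Λ) (F : EtModW.ModP Λ X)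
    (hF : _root_.ProEtDC.IsDCSheaf Λ (Ideal.span (Set.range a)) F) (h0 : _root_.ProEtDC.ModGensIsZero Λ a F) :
    IsZero F := by
  classical
  haveI : Epi (biproduct.desc fun k : Fin r => _root_.ProEtDC.smulHom Λ F (a k)) := h0
  rw [IsZero.iff_id_eq_zero]
  refine hom_ext_wc _ _ fun V hV s => ?_
  haveI : Subsingleton (F.obj.obj (op V)) := by
    let S := Finset.univ.image a
    refine subsingleton_of_span_smul_top_eq_top S _ (fun f hf => ?_) ?_
    · refine (isDCSheaf_iff_wc _ _).1 hF V hV f (Ideal.subset_span ?_)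
      obtain ⟨k, -, rfl⟩ := Finset.mem_image.1 hf
      exact ⟨k, rfl⟩
    · refine eq_top_iff.2 fun m _ => ?_
      obtain ⟨t, rfl⟩ := surjective_app_of_epi hV (biproduct.desc fun k : Fin r => _root_.ProEtDC.smulHom Λ F (a k)) m
      have e := congrArg (fun φ : (⨁ fun _ : Fin r => F) ⟶ F => φ.hom.app (op V) t)
        (biproduct.desc_eq (f := fun _ : Fin r => F) (g := fun k => _root_.ProEtDC.smulHom Λ F (a k)))
      refine (congrArg (fun q : F.obj.obj (op V) => q ∈ Ideal.span (S : Set Λ) • (⊤ : Submodule Λ _)) ?_).mpr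
        (Submodule.sum_mem _ fun k (_ : k ∈ Finset.univ) => Submodule.smul_mem_smul
          (Ideal.subset_span (Finset.mem_image_of_mem a (Finset.mem_univ k)))
          (Submodule.mem_top : (biproduct.π (fun _ : Fin r => F) k).hom.app (op V) t ∈ ⊤))
      refine e.trans ?_
      show ((sec V).map (∑ j, biproduct.π (fun _ : Fin r => F) j ≫ _root_.ProEtDC.smulHom Λ F (a j))) t = _
      rw [Functor.map_sum]
      exact (congrArg (fun φ : (⨁ fun _ : Fin r => F).obj.obj (op V) →ₗ[Λ] F.obj.obj (op V) => φ t)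
        (ModuleCat.hom_sum _ _)).trans (LinearMap.sum_apply _ _ _)
  exact Subsingleton.elim _ _

end Groth.L27.ProEtDC
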