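import Groth.Agent.L27.ProEtDC.Stable
import Mathlib.RingTheory.Filtration
import Mathlib.Algebra.Category.ModuleCat.EpiMono

/-! # Completed constant sheaves of finitely generated modules -/

universe u

open CategoryTheory CategoryTheory.Limits AlgebraicGeometry Opposite

set_option backward.isDefEq.respectTransparency false
set_option backward.defeqAttrib.useBackward true
set_option linter.style.haveILetI false
set_option linter.unusedSectionVars false

noncomputable section

namespace Groth.L27.ProEtDC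

variable {Λ : Type (u + 1)} [CommRing Λ] {X : Scheme.{u}}

/-- Constant sheaves of modules. -/
abbrev cst (X : Scheme.{u}) : ModuleCat.{u + 1} Λ ⥤ EtModW.ModP Λ X :=
  constantSheaf (Scheme.ProEt.topology X) (ModuleCat.{u + 1} Λ)

/-- The final object of the small pro-etale site. -/
def topTerminal (X : Scheme.{u}) : IsTerminal (ProEtS.topP X) :=
  IsTerminal.ofUniqueHom (Y := ProEtS.topP X)
    (fun U => (MorphismProperty.Over.homMk U.hom (Category.comp_id _) trivial : U ⟶ ProEtS.topP X))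
    fun U g => MorphismProperty.Over.Hom.ext ((Category.comp_id g.left).symm.trans (MorphismProperty.Over.w g))

/-- Constant sheaves are left adjoint to global sections. -/
def cstAdj (X : Scheme.{u}) : cst (Λ := Λ) X ⊣ sec (ProEtS.topP X) :=
  (constantSheafAdj (Scheme.ProEt.topology X) (ModuleCat.{u + 1} Λ) (topTerminal X)).ofNatIsoRight (Iso.refl _)

instance : (cst (Λ := Λ) X).IsLeftAdjoint := (cstAdj X).isLeftAdjoint

instance : (cst (Λ := Λ) X).Additive := (cstAdj (Λ := Λ) X).left_adjoint_additive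

instance preservesFiniteLimits_cst : PreservesFiniteLimits (cst (Λ := Λ) X) := by
  unfold cst constantSheaf
  infer_instance

/-- The truncations `M / I ^ n M`. -/
abbrev lvl (I : Ideal Λ) (M : ModuleCat.{u + 1} Λ) (n : ℕ) : ModuleCat.{u + 1} Λ :=
  ModuleCat.of Λ (M ⧸ (I ^ n • ⊤ : Submodule Λ M))

/-- Projection to a truncation. -/
def lvlProj (I : Ideal Λ) (M : ModuleCat.{u + 1} Λ) (n : ℕ) : M ⟶ lvl I M n :=
  ModuleCat.ofHom (I ^ n • ⊤ : Submodule Λ M).mkQ

/-- Transition maps of truncations. -/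
def lvlTrans (I : Ideal Λ) (M : ModuleCat.{u + 1} Λ) {m n : ℕ} (h : m ≤ n) : lvl I M n ⟶ lvl I M m :=
  ModuleCat.ofHom (Submodule.factorPow I M h)

/-- Functoriality of truncations. -/
def lvlMap (I : Ideal Λ) {M N : ModuleCat.{u + 1} Λ} (g : M ⟶ N) (n : ℕ) : lvl I M n ⟶ lvl I N n :=
  ModuleCat.ofHom (Submodule.mapQ _ _ g.hom (Submodule.smul_le.2 fun a ha x _ => by
    rw [Submodule.mem_comap, map_smul]
    exact Submodule.smul_mem_smul ha Submodule.mem_top))

theorem lvlMap_trans (I : Ideal Λ) {M N : ModuleCat.{u + 1} Λ} (g : M ⟶ N) {m n : ℕ} (h : m ≤ n) :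
    lvlMap I g n ≫ lvlTrans I N h = lvlTrans I M h ≫ lvlMap I g m :=
  ModuleCat.hom_ext (Submodule.linearMap_qext _ (LinearMap.ext fun _ => rfl))

theorem lvlProj_trans (I : Ideal Λ) (M : ModuleCat.{u + 1} Λ) {m n : ℕ} (h : m ≤ n) :
    lvlProj I M n ≫ lvlTrans I M h = lvlProj I M m :=
  ModuleCat.hom_ext (LinearMap.ext fun _ => rfl)

theorem lvlProj_map (I : Ideal Λ) {M N : ModuleCat.{u + 1} Λ} (g : M ⟶ N) (n : ℕ) :
    lvlProj I M n ≫ lvlMap I g n = g ≫ lvlProj I N n :=
  ModuleCat.hom_ext (LinearMap.ext fun _ => rfl)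

theorem lvlTrans_trans (I : Ideal Λ) (M : ModuleCat.{u + 1} Λ) {l m n : ℕ} (h : l ≤ m) (h' : m ≤ n) :
    lvlTrans I M h' ≫ lvlTrans I M h = lvlTrans I M (h.trans h') :=
  ModuleCat.hom_ext (Submodule.linearMap_qext _ (LinearMap.ext fun _ => rfl))

/-- The tower of truncations. -/
def tower (I : Ideal Λ) (M : ModuleCat.{u + 1} Λ) : ℕᵒᵖ ⥤ ModuleCat.{u + 1} Λ where
  obj n := lvl I M n.unop
  map {n m} h := lvlTrans I M (leOfHom h.unop)
  map_id n := ModuleCat.hom_ext (Submodule.linearMap_qext _ (LinearMap.ext fun _ => rfl))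
  map_comp f g := (lvlTrans_trans I M _ _).symm

/-- The completed constant sheaf of a module. -/
abbrev chat (X : Scheme.{u}) (I : Ideal Λ) (M : ModuleCat.{u + 1} Λ) : EtModW.ModP Λ X :=
  limit (tower I M ⋙ cst X)

/-- The projections of the completed constant sheaf. -/
abbrev chatπ (X : Scheme.{u}) (I : Ideal Λ) (M : ModuleCat.{u + 1} Λ) (n : ℕ) :
    chat X I M ⟶ (cst X).obj (lvl I M n) :=
  limit.π (tower I M ⋙ cst X) (op n)

/-- The completion map. -/
def eta (X : Scheme.{u}) (I : Ideal Λ) (M : ModuleCat.{u + 1} Λ) : (cst X).obj M ⟶ chat X I M :=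
  limit.lift (tower I M ⋙ cst X)
    { pt := (cst X).obj M
      π :=
        { app := fun n => (cst X).map (lvlProj I M n.unop)
          naturality := fun n m h => by
            show 𝟙 _ ≫ (cst X).map (lvlProj I M m.unop) =
              (cst X).map (lvlProj I M n.unop) ≫ (cst X).map (lvlTrans I M (leOfHom h.unop))
            rw [Category.id_comp, ← Functor.map_comp, lvlProj_trans] } }

theorem eta_π (I : Ideal Λ) (M : ModuleCat.{u + 1} Λ) (n : ℕ) :
    eta X I M ≫ chatπ X I M n = (cst X).map (lvlProj I M n) :=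
  limit.lift_π _ _

/-- Functoriality of completed constant sheaves. -/
def chatMap (X : Scheme.{u}) (I : Ideal Λ) {M N : ModuleCat.{u + 1} Λ} (g : M ⟶ N) : chat X I M ⟶ chat X I N :=
  limMap (Functor.whiskerRight
    { app := fun n => lvlMap I g n.unop
      naturality := fun n m h => (lvlMap_trans I g (leOfHom h.unop)).symm } (cst X))

theorem chatMap_π (I : Ideal Λ) {M N : ModuleCat.{u + 1} Λ} (g : M ⟶ N) (n : ℕ) :
    chatMap X I g ≫ chatπ X I N n = chatπ X I M n ≫ (cst X).map (lvlMap I g n) :=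
  limMap_π _ _

theorem eta_natural (I : Ideal Λ) {M N : ModuleCat.{u + 1} Λ} (g : M ⟶ N) :
    eta X I M ≫ chatMap X I g = (cst X).map g ≫ eta X I N := by
  refine limit.hom_ext fun ⟨n⟩ => ?_
  show (eta X I M ≫ chatMap X I g) ≫ chatπ X I N n = ((cst X).map g ≫ eta X I N) ≫ chatπ X I N n
  rw [Category.assoc, Category.assoc, chatMap_π, eta_π, ← Category.assoc, eta_π, ← Functor.map_comp,
    ← Functor.map_comp, lvlProj_map]

/-- Constant sheaves followed by sections over `V`. -/
abbrev cstSec (V : X.ProEt) : ModuleCat.{u + 1} Λ ⥤ ModuleCat.{u + 1} Λ := cst X ⋙ sec V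

theorem cstSec_exact {V : X.ProEt} (hV : ProEtS.IsWC V) {A B C : ModuleCat.{u + 1} Λ} (a : A ⟶ B) (b : B ⟶ C)
    (hab : a ≫ b = 0) (h : Function.Exact a b) (y : (cstSec V).obj B) (hy : (cstSec V).map b y = 0) :
    ∃ x, (cstSec V).map a x = y := by
  haveI := preservesFiniteColimits_sec (Λ := Λ) hV
  have hS : (ShortComplex.mk a b hab).Exact := (ShortComplex.ShortExact.moduleCat_exact_iff_function_exact _).2 h
  exact ((ShortComplex.moduleCat_exact_iff _).1 (hS.map (cstSec V))) y hy

theorem cstSec_surjective {V : X.ProEt} (hV : ProEtS.IsWC V) {A B : ModuleCat.{u + 1} Λ} (a : A ⟶ B)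
    (h : Function.Surjective a) : Function.Surjective ((cstSec V).map a) := by
  haveI : Epi a := (ModuleCat.epi_iff_surjective a).2 h
  exact surjective_app_of_epi hV ((cst X).map a)

theorem cstSec_injective (V : X.ProEt) {A B : ModuleCat.{u + 1} Λ} (a : A ⟶ B)
    (h : Function.Injective a) : Function.Injective ((cstSec V).map a) := by
  haveI : Mono a := (ModuleCat.mono_iff_injective a).2 h
  exact (ModuleCat.mono_iff_injective _).1 inferInstance

theorem chat_ext (I : Ideal Λ) (M : ModuleCat.{u + 1} Λ) (V : X.ProEt) (y y' : (sec V).obj (chat X I M))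
    (h : ∀ n, (sec V).map (chatπ X I M n) y = (sec V).map (chatπ X I M n) y') : y = y' :=
  Concrete.isLimit_ext ((tower I M ⋙ cst X) ⋙ sec V)
    (isLimitOfPreserves (sec V) (limit.isLimit (tower I M ⋙ cst X))) y y' fun n => h n.unop

theorem chat_compat (I : Ideal Λ) (M : ModuleCat.{u + 1} Λ) (V : X.ProEt) (y : (sec V).obj (chat X I M))
    {m n : ℕ} (h : m ≤ n) :
    (cstSec V).map (lvlTrans I M h) ((sec V).map (chatπ X I M n) y) = (sec V).map (chatπ X I M m) y :=
  congrArg (fun φ : (sec V).obj (chat X I M) ⟶ (cstSec V).obj (lvl I M m) => φ y)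
    (((sec V).map_comp _ _).symm.trans (congrArg (sec V).map (limit.w (tower I M ⋙ cst X) (homOfLE h).op)))

theorem chat_mk (I : Ideal Λ) (M : ModuleCat.{u + 1} Λ) (V : X.ProEt) (c : ∀ n, (cstSec V).obj (lvl I M n))
    (hc : ∀ n, (cstSec V).map (lvlTrans I M n.le_succ) (c (n + 1)) = c n) :
    ∃ y : (sec V).obj (chat X I M), ∀ n, (sec V).map (chatπ X I M n) y = c n := by
  have hc' : ∀ (m k : ℕ), (cstSec V).map (lvlTrans I M (Nat.le_add_right m k)) (c (m + k)) = c m := fun m k => by
    induction k with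
    | zero =>
      show (cstSec V).map ((tower I M).map (𝟙 (op m))) (c m) = c m
      rw [CategoryTheory.Functor.map_id, CategoryTheory.Functor.map_id, ConcreteCategory.id_apply]
    | succ k ih =>
      rw [← lvlTrans_trans I M (Nat.le_add_right m k) (m + k).le_succ, Functor.map_comp, ModuleCat.comp_apply]
      exact (congrArg _ (hc (m + k))).trans ih
  let E := (tower I M ⋙ cst X) ⋙ sec V
  let hl := isLimitOfPreserves (forget (ModuleCat.{u + 1} Λ))
    (isLimitOfPreserves (sec V) (limit.isLimit (tower I M ⋙ cst X)))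
  refine ⟨(Types.isLimitEquivSections (F := E ⋙ forget (ModuleCat.{u + 1} Λ)) hl).symm
    ⟨fun j => c j.unop, fun {i j} a => ?_⟩, fun n => ?_⟩
  · obtain ⟨k, hk⟩ := Nat.exists_eq_add_of_le (leOfHom a.unop)
    obtain ⟨i⟩ := i
    obtain ⟨j⟩ := j
    dsimp at hk
    subst hk
    exact hc' j k
  · exact Types.isLimitEquivSections_symm_apply (F := E ⋙ forget (ModuleCat.{u + 1} Λ)) hl _ (op n)

theorem shortExact_of_wc (S : ShortComplex (EtModW.ModP Λ X))
    (hi : ∀ V : X.ProEt, ProEtS.IsWC V → Function.Injective ((sec V).map S.f))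
    (he : ∀ V : X.ProEt, ProEtS.IsWC V → ∀ y, (sec V).map S.g y = 0 → ∃ x, (sec V).map S.f x = y)
    (hs : ∀ V : X.ProEt, ProEtS.IsWC V → Function.Surjective ((sec V).map S.g)) : S.ShortExact := by
  haveI : Mono S.f := ⟨fun {Z} a b h => hom_ext_wc a b fun V hV z => hi V hV
    (congrArg (fun φ : Z ⟶ S.X₂ => φ.hom.app (op V) z) h)⟩
  haveI : Epi S.g := ⟨fun {Z} a b h => hom_ext_wc a b fun V hV z => by
    obtain ⟨y, rfl⟩ := hs V hV z
    exact congrArg (fun φ : S.X₂ ⟶ Z => φ.hom.app (op V) y) h⟩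
  refine { exact := ?_ }
  rw [S.exact_iff_isZero_homology, IsZero.iff_id_eq_zero]
  refine hom_ext_wc _ _ fun V hV z => ?_
  haveI := preservesFiniteColimits_sec (Λ := Λ) hV
  have hz : IsZero ((S.map (sec V)).homology) :=
    ((S.map (sec V)).exact_iff_isZero_homology).1 ((ShortComplex.moduleCat_exact_iff _).2 (he V hV))
  haveI : Subsingleton ((sec V).obj S.homology) :=
    ModuleCat.subsingleton_of_isZero (hz.of_iso (S.mapHomologyIso (sec V)).symm)
  exact Subsingleton.elim (α := (sec V).obj S.homology) _ _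

variable [IsNoetherianRing Λ]

theorem exists_artinRees (I : Ideal Λ) {A B : ModuleCat.{u + 1} Λ} [Module.Finite Λ B] (f : A ⟶ B)
    (hf : Function.Injective f) :
    ∃ c, ∀ n (x : A), f x ∈ (I ^ (n + c) • ⊤ : Submodule Λ B) → x ∈ (I ^ n • ⊤ : Submodule Λ A) := by
  obtain ⟨k, hk⟩ := Ideal.exists_pow_inf_eq_pow_smul I (LinearMap.range f.hom)
  refine ⟨k, fun n x hx => ?_⟩
  have h1 : f x ∈ (I ^ (n + k) • ⊤ ⊓ LinearMap.range f.hom : Submodule Λ B) := ⟨hx, x, rfl⟩
  rw [hk (n + k) (Nat.le_add_left k n), Nat.add_sub_cancel] at h1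
  have h2 : f x ∈ Submodule.map f.hom (I ^ n • ⊤) := by
    rw [Submodule.map_smul'', Submodule.map_top]
    exact Submodule.smul_mono le_rfl inf_le_right h1
  obtain ⟨x', hx', e⟩ := h2
  exact hf e ▸ hx'

/-- Completed constant sheaves are exact on finitely generated modules. -/
theorem chat_shortExact (I : Ideal Λ) {S : ShortComplex (ModuleCat.{u + 1} Λ)} (hS : S.ShortExact)
    [Module.Finite Λ S.X₂] :
    ∃ h : chatMap X I S.f ≫ chatMap X I S.g = 0,
      (ShortComplex.mk (chatMap X I S.f) (chatMap X I S.g) h).ShortExact := by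
  have hinj : Function.Injective S.f := hS.moduleCat_injective_f
  have hsur : Function.Surjective S.g := hS.moduleCat_surjective_g
  have hex : Function.Exact S.f S.g := (ShortComplex.ShortExact.moduleCat_exact_iff_function_exact S).1 hS.exact
  have hzero : ∀ n, lvlMap I S.f n ≫ lvlMap I S.g n = 0 := fun n =>
    ModuleCat.hom_ext (Submodule.linearMap_qext _ (LinearMap.ext fun x =>
      (congrArg (I ^ n • ⊤ : Submodule Λ S.X₃).mkQ (hex.apply_apply_eq_zero x)).trans (map_zero _)))
  have hlsur : ∀ n, Function.Surjective (lvlMap I S.g n) := fun n y => by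
    obtain ⟨y, rfl⟩ := Submodule.mkQ_surjective _ y
    obtain ⟨x, rfl⟩ := hsur y
    exact ⟨Submodule.mkQ _ x, rfl⟩
  have hlex : ∀ n, Function.Exact (lvlMap I S.f n) (lvlMap I S.g n) := fun n y => by
    refine ⟨fun hy => ?_, fun ⟨x, hx⟩ => hx ▸ congrArg (fun φ : lvl I S.X₁ n ⟶ lvl I S.X₃ n => φ x) (hzero n)⟩
    obtain ⟨y, rfl⟩ := Submodule.mkQ_surjective _ y
    have h1 : S.g y ∈ Submodule.map S.g.hom (I ^ n • ⊤ : Submodule Λ S.X₂) := by
      rw [Submodule.map_smul'', Submodule.map_top, LinearMap.range_eq_top.2 hsur]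
      exact (Submodule.Quotient.mk_eq_zero _).1 hy
    obtain ⟨y', hy', e⟩ := h1
    obtain ⟨x, hx⟩ := (hex (y - y')).1 (by rw [map_sub]; exact sub_eq_zero.2 e.symm)
    refine ⟨Submodule.mkQ _ x, (Submodule.Quotient.eq _).2 ?_⟩
    rw [hx, sub_sub_cancel_left]
    exact neg_mem hy'
  obtain ⟨c, hc⟩ := exists_artinRees I S.f hinj
  refine ⟨limit.hom_ext fun ⟨n⟩ => ?_, shortExact_of_wc _ (fun V hV => ?_) (fun V hV y hy => ?_) (fun V hV w => ?_)⟩
  · show (chatMap X I S.f ≫ chatMap X I S.g) ≫ chatπ X I S.X₃ n = 0 ≫ chatπ X I S.X₃ n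
    rw [Category.assoc, chatMap_π, ← Category.assoc, chatMap_π, Category.assoc, ← Functor.map_comp, hzero,
      Functor.map_zero, comp_zero, zero_comp]
  all_goals
    have comp : ∀ {M N : ModuleCat.{u + 1} Λ} (g : M ⟶ N) (n : ℕ) (x : (sec V).obj (chat X I M)),
        (sec V).map (chatπ X I N n) ((sec V).map (chatMap X I g) x) =
          (cstSec V).map (lvlMap I g n) ((sec V).map (chatπ X I M n) x) := fun g n x =>
      congrArg (fun φ => φ.hom.app (op V) x) (chatMap_π (X := X) I g n)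
    have kill : ∀ (n : ℕ) (z : (cstSec V).obj (lvl I S.X₁ (n + c))),
        (cstSec V).map (lvlMap I S.f (n + c)) z = 0 →
          (cstSec V).map (lvlTrans I S.X₁ (Nat.le_add_right n c)) z = 0 := fun n z hz => by
      let a : lvl I S.X₁ (n + c) ⟶ lvl I S.X₂ (n + c) := lvlMap I S.f (n + c)
      obtain ⟨w, rfl⟩ := cstSec_exact hV (ModuleCat.ofHom (LinearMap.ker a.hom).subtype) a
        (ModuleCat.hom_ext (LinearMap.ext fun x => x.2)) (LinearMap.exact_subtype_ker_map _) z hz
      have e : ModuleCat.ofHom (LinearMap.ker a.hom).subtype ≫ lvlTrans I S.X₁ (Nat.le_add_right n c) = 0 := by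
        refine ModuleCat.hom_ext (LinearMap.ext fun ⟨x, hx⟩ => ?_)
        obtain ⟨x, rfl⟩ := Submodule.mkQ_surjective _ x
        exact (Submodule.Quotient.mk_eq_zero _).2 (hc n x ((Submodule.Quotient.mk_eq_zero _).1 hx))
      rw [← ModuleCat.comp_apply, ← Functor.map_comp, e, Functor.map_zero]
      rfl
  · refine (injective_iff_map_eq_zero ((sec V).map (chatMap X I S.f)).hom).2 fun x hx => ?_
    refine chat_ext I S.X₁ V x 0 fun n => ?_
    rw [map_zero, ← chat_compat I S.X₁ V x (Nat.le_add_right n c)]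
    refine kill n _ ?_
    rw [← comp]
    exact (congrArg _ hx).trans (map_zero _)
  · have hlift : ∀ n, ∃ z, (cstSec V).map (lvlMap I S.f n) z = (sec V).map (chatπ X I S.X₂ n) y := fun n =>
      cstSec_exact hV _ _ (hzero n) (hlex n) _ ((comp S.g n y).symm.trans ((congrArg _ hy).trans (map_zero _)))
    choose z hz using hlift
    have nat : ∀ {m n : ℕ} (h : m ≤ n) (t : (cstSec V).obj (lvl I S.X₁ n)),
        (cstSec V).map (lvlMap I S.f m) ((cstSec V).map (lvlTrans I S.X₁ h) t) =
          (cstSec V).map (lvlTrans I S.X₂ h) ((cstSec V).map (lvlMap I S.f n) t) := fun h t => by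
      rw [← ModuleCat.comp_apply, ← Functor.map_comp, ← lvlMap_trans, Functor.map_comp, ModuleCat.comp_apply]
    obtain ⟨x, hx⟩ := chat_mk I S.X₁ V
      (fun n => (cstSec V).map (lvlTrans I S.X₁ (Nat.le_add_right n c)) (z (n + c))) fun n => by
        have h0 : (cstSec V).map (lvlTrans I S.X₁ (Nat.le_add_right n c))
            ((cstSec V).map (lvlTrans I S.X₁ (show n + c ≤ n + 1 + c by omega)) (z (n + 1 + c)) - z (n + c)) = 0 := by
          refine kill n _ ?_
          rw [map_sub, nat, hz, hz, chat_compat, sub_self]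
        rw [map_sub, sub_eq_zero] at h0
        rw [← h0, ← ModuleCat.comp_apply, ← Functor.map_comp, lvlTrans_trans, ← ModuleCat.comp_apply,
          ← Functor.map_comp, lvlTrans_trans]
    refine ⟨x, chat_ext I S.X₂ V _ y fun n => ?_⟩
    rw [comp, hx, nat, hz, chat_compat]
  · have step : ∀ (n : ℕ) (yn : (cstSec V).obj (lvl I S.X₂ n)),
        (cstSec V).map (lvlMap I S.g n) yn = (sec V).map (chatπ X I S.X₃ n) w →
        ∃ y' : (cstSec V).obj (lvl I S.X₂ (n + 1)),
          (cstSec V).map (lvlMap I S.g (n + 1)) y' = (sec V).map (chatπ X I S.X₃ (n + 1)) w ∧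
            (cstSec V).map (lvlTrans I S.X₂ n.le_succ) y' = yn := fun n yn hyn => by
      obtain ⟨y', hy'⟩ := cstSec_surjective hV _ (hlsur (n + 1)) ((sec V).map (chatπ X I S.X₃ (n + 1)) w)
      obtain ⟨z, hz⟩ := cstSec_exact hV _ _ (hzero n) (hlex n)
        ((cstSec V).map (lvlTrans I S.X₂ n.le_succ) y' - yn) (by
          rw [map_sub, hyn, ← ModuleCat.comp_apply, ← Functor.map_comp, ← lvlMap_trans, Functor.map_comp,
            ModuleCat.comp_apply, hy', chat_compat, sub_self])
      obtain ⟨z', rfl⟩ := cstSec_surjective hV (lvlTrans I S.X₁ n.le_succ)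
        (fun q => (Submodule.mkQ_surjective _ q).elim fun x hx => ⟨Submodule.mkQ _ x, hx⟩) z
      refine ⟨y' - (cstSec V).map (lvlMap I S.f (n + 1)) z', ?_, ?_⟩
      · rw [map_sub, hy', ← ModuleCat.comp_apply, ← Functor.map_comp, hzero, Functor.map_zero]
        exact sub_zero _
      · rw [map_sub, ← ModuleCat.comp_apply, ← Functor.map_comp, lvlMap_trans, Functor.map_comp,
          ModuleCat.comp_apply, hz, sub_sub_cancel]
    choose next h1 h2 using step
    obtain ⟨y₀, hy₀⟩ := cstSec_surjective hV _ (hlsur 0) ((sec V).map (chatπ X I S.X₃ 0) w)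
    let seq : ∀ n, {t : (cstSec V).obj (lvl I S.X₂ n) //
        (cstSec V).map (lvlMap I S.g n) t = (sec V).map (chatπ X I S.X₃ n) w} := fun n =>
      Nat.rec ⟨y₀, hy₀⟩ (fun n t => ⟨next n t.1 t.2, h1 n t.1 t.2⟩) n
    obtain ⟨y, hy⟩ := chat_mk I S.X₂ V (fun n => (seq n).1) fun n => h2 n (seq n).1 (seq n).2
    exact ⟨y, chat_ext I S.X₃ V _ w fun n => by rw [comp, hy]; exact (seq n).2⟩

/-- The completion map is an isomorphism for modules killed by the ideal. -/
theorem isIso_eta (I : Ideal Λ) (M : ModuleCat.{u + 1} Λ) (hM : ∀ a ∈ I, ∀ x : M, a • x = 0) :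
    IsIso (eta X I M) := by
  have hb : (I ^ 1 • ⊤ : Submodule Λ M) = ⊥ := by
    refine le_bot_iff.1 (Submodule.smul_le.2 fun a ha x _ => ?_)
    rw [pow_one] at ha
    exact (Submodule.mem_bot Λ).2 (hM a ha x)
  have hbn : ∀ n, (I ^ (n + 1) • ⊤ : Submodule Λ M) = ⊥ := fun n =>
    le_bot_iff.1 (hb ▸ Submodule.smul_mono_left (Ideal.pow_le_pow_right (Nat.le_add_left 1 n)))
  have hproj : ∀ n, Function.Bijective (lvlProj I M (n + 1)) := fun n =>
    ⟨LinearMap.ker_eq_bot.1 ((Submodule.ker_mkQ _).trans (hbn n)), Submodule.mkQ_surjective _⟩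
  have hinj : ∀ V : X.ProEt, Function.Injective ((sec V).map (eta X I M)) := fun V a b hab =>
    cstSec_injective V _ (hproj 0).1 (((congrArg (fun φ => φ.hom.app (op V) a) (eta_π (X := X) I M 1)).symm.trans
      (congrArg ((sec V).map (chatπ X I M 1)) hab)).trans
        (congrArg (fun φ => φ.hom.app (op V) b) (eta_π (X := X) I M 1)))
  have hsurj : ∀ V : X.ProEt, ProEtS.IsWC V → Function.Surjective ((sec V).map (eta X I M)) := fun V hV y => by
    obtain ⟨x, hx⟩ := cstSec_surjective hV _ (hproj 0).2 ((sec V).map (chatπ X I M 1) y)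
    refine ⟨x, chat_ext I M V _ y fun n => ?_⟩
    have e1 : (sec V).map (chatπ X I M (n + 1)) y = (cstSec V).map (lvlProj I M (n + 1)) x := by
      have htr : Function.Injective (lvlTrans I M (Nat.le_add_left 1 n)) := fun a b hab => by
        obtain ⟨a, rfl⟩ := (hproj n).2 a
        obtain ⟨b, rfl⟩ := (hproj n).2 b
        refine congrArg _ ((hproj 0).1 ?_)
        have e := fun t => congrArg (fun φ : M ⟶ lvl I M 1 => φ t) (lvlProj_trans I M (Nat.le_add_left 1 n))
        exact ((e a).symm.trans hab).trans (e b)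
      apply cstSec_injective V _ htr
      rw [chat_compat, ← hx, ← ModuleCat.comp_apply, ← Functor.map_comp, lvlProj_trans]
    refine (congrArg (fun φ => φ.hom.app (op V) x) (eta_π (X := X) I M n)).trans ?_
    show (cstSec V).map (lvlProj I M n) x = _
    rw [← chat_compat I M V y n.le_succ, e1, ← ModuleCat.comp_apply, ← Functor.map_comp, lvlProj_trans]
  haveI : Mono (eta X I M) := ⟨fun {Z} a b h => hom_ext_wc a b fun V _ z => hinj V
    (congrArg (fun φ : Z ⟶ chat X I M => φ.hom.app (op V) z) h)⟩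
  haveI : Epi (eta X I M) := ⟨fun {Z} a b h => hom_ext_wc a b fun V hV z => by
    obtain ⟨y, rfl⟩ := hsurj V hV z
    exact congrArg (fun φ : (cst X).obj M ⟶ Z => φ.hom.app (op V) y) h⟩
  exact isIso_of_mono_of_epi _

end Groth.L27.ProEtDC
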